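import Cfsg.Agent.Lib.OddBase.Basic
import Cfsg.Agent.Lib.CharTheory.Burnside

/-!
A solvable group cannot fuse five points in the orbit of an insoluble group commuting with it.
-/

set_option autoImplicit false

namespace CfsgLib.BaseThree

open Subgroup MulAction

universe u v w

/-- Permutations of four points form a solvable group. -/
theorem solvable_perm4 : Group.IsSolvable (Equiv.Perm (Fin 4)) :=
  CfsgLib.CharTheory.isSolvable_of_card_two_primes Nat.prime_two Nat.prime_three
    (a := 3) (b := 1) (by rw [Nat.card_perm, Nat.card_eq_fintype_card, Fintype.card_fin]; rfl)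

theorem solvable_perm_le_four {α : Type u} [Finite α] (h : Nat.card α ≤ 4) : Group.IsSolvable (Equiv.Perm α) := by
  haveI : Fintype α := Fintype.ofFinite α
  rw [Nat.card_eq_fintype_card] at h
  haveI := solvable_perm4
  exact Group.isSolvable_of_isSolvable_injective
    (Equiv.Perm.viaEmbeddingHom_injective ((Fintype.equivFin α).toEmbedding.trans (Fin.castLEEmb h)))

/-- A solvable subgroup of an insoluble group has index at least five. -/
theorem five_le_index {G : Type u} [Group G] [Finite G] (hG : ¬ Group.IsSolvable G) {P : Subgroup G}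
    (hP : Group.IsSolvable P) : 5 ≤ P.index := by
  by_contra h
  haveI := solvable_perm_le_four (α := G ⧸ P) (by rw [← Subgroup.index_eq_card]; omega)
  haveI := hP
  let f : G →* Equiv.Perm (G ⧸ P) := MulAction.toPermHom G (G ⧸ P)
  haveI : Group.IsSolvable f.ker := Group.isSolvable_of_isSolvable_injective
    (f := Subgroup.inclusion (show f.ker ≤ P from by
      intro g hg
      have h1 : g • ((1 : G) : G ⧸ P) = ((1 : G) : G ⧸ P) :=
        congrArg (fun e : Equiv.Perm (G ⧸ P) => e ((1 : G) : G ⧸ P)) (MonoidHom.mem_ker.mp hg)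
      rw [MulAction.Quotient.smul_coe, QuotientGroup.eq, smul_eq_mul, mul_one, mul_one] at h1
      exact inv_mem_iff.mp h1)) (Subgroup.inclusion_injective _)
  exact hG (Group.isSolvable_of_ker_le_range f.ker.subtype f (by rw [Subgroup.range_subtype]))

/-- Five inequivalent points in an orbit of an insoluble group commuting with a solvable one. -/
theorem five_classes {G : Type u} {A : Type v} {X : Type w} [Group G] [Finite G] [Group A] [MulAction G X]
    [MulAction A X] (hcomm : ∀ (σ : G) (a : A) (x : X), a • σ • x = σ • a • x) (hG : ¬ Group.IsSolvable G)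
    (hA : Group.IsSolvable A) (t : X) (hstab : Group.IsSolvable (stabilizer G t)) :
    ∃ σ : Fin 5 → G, ∀ (i j : Fin 5) (a : A), a • σ i • t = σ j • t → i = j := by
  classical
  let R : Subgroup (G × A) :=
    { carrier := {p | p.1 • p.2 • t = t}
      one_mem' := by
        show (1 : G) • (1 : A) • t = t
        rw [one_smul, one_smul]
      mul_mem' := fun {p q} (hp : p.1 • p.2 • t = t) (hq : q.1 • q.2 • t = t) => by
        show (p.1 * q.1) • (p.2 * q.2) • t = t
        rw [mul_smul, mul_smul p.2, ← hcomm q.1 p.2, hq, hp]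
      inv_mem' := fun {p} (hp : p.1 • p.2 • t = t) => by
        show p.1⁻¹ • p.2⁻¹ • t = t
        rw [← hcomm, inv_smul_eq_iff]
        exact (eq_inv_smul_iff.mpr hp).symm }
  let f : R →* A := (MonoidHom.snd G A).comp R.subtype
  haveI := hA
  haveI := hstab
  have hmem : ∀ r : f.ker, (r.1.1).1 ∈ stabilizer G t := fun r => by
    have h1 : (r.1.1).2 = 1 := r.2
    have h2 : (r.1.1).1 • (r.1.1).2 • t = t := r.1.2
    rw [h1, one_smul] at h2
    exact h2
  haveI : Group.IsSolvable f.ker := Group.isSolvable_of_isSolvable_injective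
    (f := (⟨⟨fun r => ⟨_, hmem r⟩, rfl⟩, fun _ _ => rfl⟩ : f.ker →* stabilizer G t)) fun r s h =>
      Subtype.ext (Subtype.ext (Prod.ext (congrArg Subtype.val h) ((r.2 : (r.1.1).2 = 1).trans (s.2 : (s.1.1).2 = 1).symm)))
  haveI : Group.IsSolvable R := Group.isSolvable_of_ker_le_range f.ker.subtype f (by rw [Subgroup.range_subtype])
  let g : R →* G := (MonoidHom.fst G A).comp R.subtype
  have hP : Group.IsSolvable g.range := Group.isSolvable_of_surjective g.rangeRestrict_surjective
  have h5 := five_le_index hG hP
  haveI : Fintype (G ⧸ g.range) := Fintype.ofFinite _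
  rw [Subgroup.index_eq_card, Nat.card_eq_fintype_card] at h5
  let e : Fin 5 ↪ G ⧸ g.range := (Fin.castLEEmb h5).trans (Fintype.equivFin _).symm.toEmbedding
  refine ⟨fun i => (e i).out, fun i j a h => e.injective ?_⟩
  have hr : (((e j).out)⁻¹ * (e i).out, a) ∈ R := by
    show (((e j).out)⁻¹ * (e i).out) • a • t = t
    rw [mul_smul, inv_smul_eq_iff, ← hcomm]
    exact h
  rw [← Quotient.out_eq (e i), ← Quotient.out_eq (e j)]
  exact ((QuotientGroup.eq (s := g.range)).mpr ⟨⟨_, hr⟩, rfl⟩).symm

end CfsgLib.BaseThree
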