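import Cfsg.Agent.Lib.BaseThree.Config
import Cfsg.Agent.Lib.OddBase.Blocks

/-!
Triples built block by block from a system of imprimitivity.
-/

set_option autoImplicit false

namespace CfsgLib.BaseThree

open MulAction CfsgLib.OddBase

universe u

variable {A V : Type u} [Group A] [AddCommGroup V] [DistribMulAction A V] [Finite A] [Finite V]
  {R : Subring (AddMonoid.End V)}

/-- Triples built block by block. -/
theorem blocks_triple (hsol : Group.IsSolvable A) (hirr : Irr A V) (ih : IH3.{u} (Nat.card A)) (hR : InvRing A R)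
    {e₁ : AddMonoid.End V} (he₁ : e₁ ∈ R) (hee : e₁ * e₁ = e₁) (h0 : e₁ ≠ 0) (h1 : e₁ ≠ 1) : Triple A V := by
  classical
  letI : MulAction A (Atom R) :=
    { smul := fun a e => ⟨rho a * e.1 * rho a⁻¹, hR.atom_conj a e.2⟩
      one_smul := fun e => Subtype.ext (show rho (1 : A) * e.1 * rho (1 : A)⁻¹ = e.1 by simp)
      mul_smul := fun a b e => Subtype.ext (conj_conj a b e.1).symm }
  have hsmul : ∀ (a : A) (e : Atom R) (x : V), (a • e).1 (a • x) = a • e.1 x := fun a e x => by
    show a • (e.1 (a⁻¹ • a • x)) = _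
    rw [inv_smul_smul]
  haveI : Fintype (Atom R) := Fintype.ofFinite _
  obtain ⟨a₀, ha₀, ha₀e⟩ := exists_atom hR.comm _ e₁ he₁ h0 hee le_rfl
  let e : Atom R := ⟨a₀, ha₀⟩
  have horth : ∀ {f g : Atom R}, f ≠ g → ∀ x, f.1 (g.1 x) = 0 := fun h x =>
    DFunLike.congr_fun (atom_orth hR.comm h) x
  have hidem : ∀ (f : Atom R) (x : V), f.1 (f.1 x) = f.1 x := fun f x => DFunLike.congr_fun f.2.2.2.1 x
  have hsum : ∀ x : V, ∑ f : Atom R, f.1 x = x := fun x => by
    exact (map_sum (AddMonoidHom.eval x : (V →+ V) →+ V) (fun f : Atom R => (f.1 : V →+ V)) Finset.univ).symm.trans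
      (DFunLike.congr_fun (sum_atoms hR.comm) x)
  haveI : IsPretransitive A (Atom R) := by
    have key : ∀ f : Atom R, f ∈ orbit A e := fun f => by
      by_contra hf
      let U : AddSubgroup V := ⨅ g ∈ {g : Atom R | g ∉ orbit A e}, (AddMonoidHom.ker (g.1 : V →+ V))
      have hU : ∀ x, x ∈ U ↔ ∀ g : Atom R, g ∉ orbit A e → g.1 x = 0 := fun x => by
        simp only [U, AddSubgroup.mem_iInf]
        exact ⟨fun h g hg => h g hg, fun h g hg => h g hg⟩
      rcases hirr.2 U (fun a x hx => (hU _).mpr fun g hg => by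
        rw [← smul_inv_smul a g, hsmul, (hU x).mp hx _ (fun h => hg (by
          rw [← smul_inv_smul a g, ← orbit_eq_iff, orbit_smul, orbit_eq_iff]; exact h)), smul_zero]) with h | h
      · refine e.2.2.1 (DFunLike.ext _ _ fun x => ?_)
        have : e.1 x ∈ U := (hU _).mpr fun g hg => horth (fun h' => hg (by rw [h']; exact mem_orbit_self e)) x
        rw [h, AddSubgroup.mem_bot] at this
        exact this
      · exact f.2.2.1 (DFunLike.ext _ _ fun x => (hU x).mp (h.ge trivial) f hf)
    refine ⟨fun f g => ?_⟩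
    obtain ⟨a, rfl⟩ := key f
    obtain ⟨b, rfl⟩ := key g
    exact ⟨b * a⁻¹, by rw [mul_smul, inv_smul_smul]⟩
  let H := stabilizer A e
  have hlt : Nat.card H < Nat.card A := by
    refine lt_of_le_of_ne (Subgroup.card_le_card_group _) fun h => ?_
    have htop := Subgroup.eq_top_of_card_eq _ h
    have hall : ∀ f : Atom R, f = e := fun f => by
      obtain ⟨a, rfl⟩ := exists_smul_eq A e f
      exact mem_stabilizer_iff.mp (htop.ge (Subgroup.mem_top a))
    have he1 : e.1 = 1 := by
      rw [← sum_atoms hR.comm, Finset.sum_eq_single e (fun f _ hf => absurd (hall f) hf) (by simp)]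
    rcases e.2.2.2.2 e₁ he₁ hee (by rw [he1, mul_one]) with h | h
    · exact h0 h
    · exact h1 (h.trans he1)
  -- the module of the block
  let W : AddSubgroup V :=
    { carrier := {x | e.1 x = x}
      zero_mem' := map_zero e.1
      add_mem' := fun {x y} hx hy => by
        show e.1 (x + y) = x + y
        rw [map_add, show e.1 x = x from hx, show e.1 y = y from hy]
      neg_mem' := fun {x} hx => by
        show e.1 (-x) = -x
        rw [map_neg, show e.1 x = x from hx] }
  have hHW : ∀ (a : H) (x : V), x ∈ W → (a : A) • x ∈ W := fun a x (hx : e.1 x = x) => by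
    show e.1 ((a : A) • x) = (a : A) • x
    conv_lhs => rw [← mem_stabilizer_iff.mp a.2, hsmul, hx]
  letI : DistribMulAction H W :=
    { smul := fun a x => ⟨(a : A) • (x : V), hHW a x x.2⟩
      one_smul := fun x => Subtype.ext (one_smul A (x : V))
      mul_smul := fun a b x => Subtype.ext (mul_smul (a : A) b (x : V))
      smul_zero := fun a => Subtype.ext (smul_zero (a : A))
      smul_add := fun a x y => Subtype.ext (smul_add (a : A) (x : V) y) }
  have hWne : ∃ x : W, x ≠ 0 := by
    obtain ⟨x, hx⟩ : ∃ x, e.1 x ≠ 0 := by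
      by_contra h
      push Not at h
      exact e.2.2.1 (DFunLike.ext _ _ h)
    exact ⟨⟨e.1 x, hidem e x⟩, fun h => hx (congrArg Subtype.val h)⟩
  have hWirr : Irr H W := by
    refine ⟨hWne, fun U hU => ?_⟩
    by_cases hU0 : U = ⊥
    · exact Or.inl hU0
    refine Or.inr (eq_top_iff.mpr fun x _ => ?_)
    let T : AddSubgroup V := AddSubgroup.closure {y | ∃ (a : A) (u : W), u ∈ U ∧ y = a • (u : V)}
    rcases hirr.2 T (fun a y hy => by
      induction hy using AddSubgroup.closure_induction with
      | mem z hz =>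
        obtain ⟨b, u, hu, rfl⟩ := hz
        exact AddSubgroup.subset_closure ⟨a * b, u, hu, (mul_smul a b _).symm⟩
      | zero => rw [smul_zero]; exact zero_mem _
      | add y z _ _ h1 h2 => rw [smul_add]; exact add_mem h1 h2
      | neg y _ h1 => rw [smul_neg]; exact neg_mem h1) with h | h
    · exfalso
      refine hU0 (eq_bot_iff.mpr fun u hu => Subtype.ext ?_)
      have : (u : V) ∈ T := AddSubgroup.subset_closure ⟨1, u, hu, (one_smul A _).symm⟩
      rw [h, AddSubgroup.mem_bot] at this
      exact this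
    · have key : ∀ y ∈ T, ∃ u ∈ U, (u : V) = e.1 y := fun y hy => by
        induction hy using AddSubgroup.closure_induction with
        | mem z hz =>
          obtain ⟨b, u, hu, rfl⟩ := hz
          by_cases hb : b • e = e
          · exact ⟨(⟨b, hb⟩ : H) • u, hU _ u hu, (hHW ⟨b, hb⟩ u u.2).symm⟩
          · refine ⟨0, zero_mem _, ?_⟩
            have : (b • e).1 (b • (u : V)) = b • (u : V) := by rw [hsmul]; exact congrArg (b • ·) u.2
            rw [← this, horth (Ne.symm hb)]
            rfl
        | zero => exact ⟨0, zero_mem _, (map_zero _).symm⟩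
        | add y z _ _ h1 h2 =>
          obtain ⟨u, hu, h1⟩ := h1
          obtain ⟨v, hv, h2⟩ := h2
          exact ⟨u + v, add_mem hu hv, by rw [map_add, ← h1, ← h2]; rfl⟩
        | neg y _ h1 =>
          obtain ⟨u, hu, h1⟩ := h1
          exact ⟨-u, neg_mem hu, by rw [map_neg, ← h1]; rfl⟩
      obtain ⟨u, hu, hux⟩ := key x (h.ge trivial)
      exact (Subtype.ext (hux.trans x.2) : u = x) ▸ hu
  haveI := hsol
  have hsolH : Group.IsSolvable H := inferInstance
  obtain ⟨P, hP, hPne⟩ := five_triples hsolH hWirr (ih H W hlt hsolH hWirr.cr)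
  obtain ⟨col, hcol⟩ := coloured_of_IH ih _ A (Atom R) rfl le_rfl hsol
  choose t ht using fun f : Atom R => exists_smul_eq A e f
  have hproj : ∀ (x : Atom R → W) (f : Atom R), f.1 (∑ g, t g • (x g : V)) = t f • (x f : V) := fun x f => by
    have hg : ∀ g, g.1 (t g • (x g : V)) = t g • (x g : V) := fun g => by
      conv_lhs => rw [show g.1 = (t g • e).1 by rw [ht], hsmul, show e.1 (x g : V) = x g from (x g).2]
    rw [map_sum, Finset.sum_eq_single f (fun g _ hg' => by rw [← hg g, horth (Ne.symm hg')]) (by simp), hg]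
  refine ⟨fun k => ∑ g, t g • ((P (col g) k : W) : V), fun a hfix x => ?_⟩
  have hh : ∀ f, (t (a • f))⁻¹ * a * t f ∈ H := fun f => by
    rw [mem_stabilizer_iff, mul_smul, mul_smul, ht, inv_smul_eq_iff, ht]
  have hmap : ∀ (y : Atom R → W), a • (∑ g, t g • (y g : V)) = ∑ g, t g • (y g : V) →
      ∀ f, (⟨_, hh f⟩ : H) • y f = y (a • f) := fun y hy f => Subtype.ext (by
    show ((t (a • f))⁻¹ * a * t f) • (y f : V) = _
    rw [mul_smul, mul_smul, inv_smul_eq_iff, ← hproj y f, ← hsmul, hy, hproj y])
  have hm := fun k => hmap (fun g => P (col g) k) (hfix k)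
  have hfixf : ∀ f, a • f = f := hcol a fun f => (hPne _ _ _ fun k => hm k f).symm
  rw [← hsum x, Finset.smul_sum]
  refine Finset.sum_congr rfl fun f _ => ?_
  have hk : (t f)⁻¹ • f.1 x ∈ W := by
    show e.1 _ = _
    have := hsmul (t f) e ((t f)⁻¹ • f.1 x)
    rw [ht, smul_inv_smul, hidem] at this
    rw [eq_inv_smul_iff]
    exact this.symm
  have hP' : ∀ k, (⟨_, hh f⟩ : H) • P (col f) k = P (col f) k := fun k => by
    rw [hm k f, hfixf f]
  have h3 := congrArg Subtype.val (hP _ _ hP' ⟨_, hk⟩)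
  change ((t (a • f))⁻¹ * a * t f) • (t f)⁻¹ • f.1 x = (t f)⁻¹ • f.1 x at h3
  rw [hfixf f, mul_smul, mul_smul, smul_inv_smul] at h3
  exact smul_left_cancel _ h3

end CfsgLib.BaseThree
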