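import Cfsg.Agent.Lib.BaseThree.Classes

/-!
A solvable group acting on a finite set has a five-colouring fixed only by trivially acting elements, given
three vectors with trivial common stabilizer for the smaller linear groups.
-/

set_option autoImplicit false

namespace CfsgLib.BaseThree

open Subgroup MulAction CfsgLib.OddBase

universe u

/-- Three vectors whose common stabilizer acts trivially. -/
def Triple (A V : Type u) [Group A] [AddCommGroup V] [DistribMulAction A V] : Prop :=
  ∃ t : Fin 3 → V, ∀ a : A, (∀ k, a • t k = t k) → ∀ x : V, a • x = x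

/-- The inductive hypothesis: the theorem for groups of order less than `m`. -/
def IH3 (m : ℕ) : Prop :=
  ∀ (A V : Type u) [Group A] [Finite A] [AddCommGroup V] [Finite V] [DistribMulAction A V],
    Nat.card A < m → Group.IsSolvable A → CR A V → Triple A V

/-- A colouring whose stabilizer acts trivially. -/
def Coloured5 (G ι : Type u) [Group G] [MulAction G ι] : Prop :=
  ∃ c : ι → Fin 5, ∀ g : G, (∀ i : ι, c (g • i) = c i) → ∀ i : ι, g • i = i

/-- Recolourings. -/
theorem recolour {H p : Type u} [Group H] [MulAction H p] [Nonempty p] (hH : Group.IsSolvable H) (c : p → Fin 5) :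
    ∃ σ : Fin 5 → Equiv.Perm (Fin 5), ∀ (i j : Fin 5) (h : H),
      (∀ x : p, σ i (c x) = σ j (c (h • x))) → i = j := by
  letI : MulAction (Equiv.Perm (Fin 5)) (p → Fin 5) :=
    { smul := fun σ d x => σ (d x)
      one_smul := fun d => rfl
      mul_smul := fun σ τ d => rfl }
  letI : MulAction H (p → Fin 5) :=
    { smul := fun h d x => d (h⁻¹ • x)
      one_smul := fun d => funext fun x => show d ((1 : H)⁻¹ • x) = d x by rw [inv_one, one_smul]
      mul_smul := fun a b d => funext fun x => show d ((a * b)⁻¹ • x) = d (b⁻¹ • a⁻¹ • x) by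
        rw [mul_inv_rev, mul_smul] }
  obtain ⟨x₀⟩ := ‹Nonempty p›
  have hstab : Group.IsSolvable (stabilizer (Equiv.Perm (Fin 5)) c) := by
    let S : Subgroup (Equiv.Perm (Fin 5)) := stabilizer (Equiv.Perm (Fin 5)) (c x₀)
    have hle : stabilizer (Equiv.Perm (Fin 5)) c ≤ S := fun σ hσ =>
      show σ (c x₀) = c x₀ from congrFun (mem_stabilizer_iff.mp hσ) x₀
    haveI : Group.IsSolvable S := by
      haveI := solvable_perm_le_four (α := {y : Fin 5 // y ≠ c x₀}) (by
        rw [Nat.card_eq_fintype_card, Fintype.card_subtype_compl]; simp)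
      let f : S →* Equiv.Perm {y : Fin 5 // y ≠ c x₀} :=
        { toFun := fun σ => (σ : Equiv.Perm (Fin 5)).subtypePerm fun y => by
            have hs : (σ : Equiv.Perm (Fin 5)) (c x₀) = c x₀ := σ.2
            exact ⟨fun hy e => hy (by rw [e, hs]), fun hy e => hy ((σ : Equiv.Perm (Fin 5)).injective (e.trans hs.symm))⟩
          map_one' := Equiv.ext fun y => Subtype.ext rfl
          map_mul' := fun σ τ => Equiv.ext fun y => Subtype.ext rfl }
      refine Group.isSolvable_of_isSolvable_injective (f := f) fun σ τ h => Subtype.ext (Equiv.ext fun y => ?_)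
      by_cases hy : y = c x₀
      · subst hy
        exact σ.2.trans τ.2.symm
      · exact congrArg Subtype.val (Equiv.congr_fun h ⟨y, hy⟩)
    exact Group.isSolvable_of_isSolvable_injective (f := Subgroup.inclusion hle) (Subgroup.inclusion_injective hle)
  obtain ⟨σ, hσ⟩ := five_classes (G := Equiv.Perm (Fin 5)) (A := H) (fun σ a d => rfl)
    Equiv.Perm.not_isSolvable_fin_5 hH c hstab
  refine ⟨σ, fun i j h hx => hσ i j h (funext fun x => ?_)⟩
  show σ i (c (h⁻¹ • x)) = σ j (c x)
  rw [hx, smul_inv_smul]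

/-- Invariant parts are coloured separately. -/
theorem coloured_split {G ι : Type u} [Group G] [MulAction G ι] (O : Set ι) (hO : ∀ (g : G) i, g • i ∈ O ↔ i ∈ O)
    (h1 : ∀ (p : SubMulAction G ι), (∀ i, i ∈ p ↔ i ∈ O) → Coloured5 G p)
    (h2 : ∀ (p : SubMulAction G ι), (∀ i, i ∈ p ↔ i ∉ O) → Coloured5 G p) : Coloured5 G ι := by
  classical
  let p : SubMulAction G ι := ⟨O, fun g {i} hi => (hO g i).mpr hi⟩
  let q : SubMulAction G ι := ⟨Oᶜ, fun g {i} hi => fun h => hi ((hO g i).mp h)⟩
  obtain ⟨c, hc⟩ := h1 p fun i => Iff.rfl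
  obtain ⟨d, hd⟩ := h2 q fun i => Iff.rfl
  refine ⟨fun i => if h : i ∈ O then c ⟨i, h⟩ else d ⟨i, h⟩, fun g hg i => ?_⟩
  by_cases hi : i ∈ O
  · refine congrArg Subtype.val (hc g (fun j => ?_) ⟨i, hi⟩)
    have := hg (j : ι)
    dsimp only at this
    rwa [dif_pos ((hO g _).mpr j.2), dif_pos (show (j : ι) ∈ O from j.2)] at this
  · refine congrArg Subtype.val (hd g (fun j => ?_) ⟨i, hi⟩)
    have := hg (j : ι)
    dsimp only at this
    rwa [dif_neg (fun h => j.2 ((hO g _).mp h)), dif_neg (show (j : ι) ∉ O from j.2)] at this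

/-- Colour a block system, then each block by one of five inequivalent recolourings. -/
theorem coloured_blocks {G ι β : Type u} [Group G] [MulAction G ι] [MulAction G β] [IsPretransitive G β]
    (hsol : Group.IsSolvable G) (π : ι → β) (hπ : ∀ (g : G) i, π (g • i) = g • π i) (b₀ : β)
    (hne : ∃ i, π i = b₀) (hβ : Coloured5 G β)
    (hB : ∀ p : SubMulAction (stabilizer G b₀) ι, (∀ i, i ∈ p ↔ π i = b₀) → Coloured5 (stabilizer G b₀) p) :
    Coloured5 G ι := by
  classical
  let p : SubMulAction (stabilizer G b₀) ι :=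
    ⟨{i | π i = b₀}, fun g {i} (hi : π i = b₀) => show π ((g : G) • i) = b₀ by rw [hπ, hi]; exact g.2⟩
  obtain ⟨S, hS⟩ := hB p fun i => Iff.rfl
  obtain ⟨T, hT⟩ := hβ
  haveI := hsol
  obtain ⟨i₁, hi₁⟩ := hne
  haveI : Nonempty p := ⟨⟨i₁, hi₁⟩⟩
  obtain ⟨σ, hσ⟩ := recolour (H := stabilizer G b₀) (p := p) inferInstance S
  choose t ht using fun b : β => exists_smul_eq G b₀ b
  have hmem : ∀ i : ι, π ((t (π i))⁻¹ • i) = b₀ := fun i => by rw [hπ, inv_smul_eq_iff]; exact (ht _).symm
  let c : ι → p := fun i => ⟨(t (π i))⁻¹ • i, hmem i⟩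
  refine ⟨fun i => σ (T (π i)) (S (c i)), fun g hg => ?_⟩
  have hh : ∀ b : β, (t (g • b))⁻¹ * g * t b ∈ stabilizer G b₀ := fun b => by
    rw [mem_stabilizer_iff, mul_smul, mul_smul, ht, inv_smul_eq_iff, ht]
  have hc : ∀ i, c (g • i) = (⟨_, hh (π i)⟩ : stabilizer G b₀) • c i := fun i => Subtype.ext (by
    show (t (π (g • i)))⁻¹ • g • i = ((t (g • π i))⁻¹ * g * t (π i)) • (t (π i))⁻¹ • i
    rw [hπ, mul_smul, mul_smul, smul_inv_smul])
  have key : ∀ b (x : p), σ (T (g • b)) (S ((⟨_, hh b⟩ : stabilizer G b₀) • x)) = σ (T b) (S x) := by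
    intro b x
    have h1 : π (t b • (x : ι)) = b := by rw [hπ, show π (x : ι) = b₀ from x.2, ht]
    obtain ⟨i, rfl, rfl⟩ : ∃ i, π i = b ∧ c i = x := by
      refine ⟨t b • (x : ι), h1, Subtype.ext ?_⟩
      show (t (π (t b • (x : ι))))⁻¹ • t b • (x : ι) = x
      rw [h1, inv_smul_smul]
    have h2 := hg i
    simp only [hc, hπ] at h2
    exact h2
  have hfix : ∀ b, T (g • b) = T b := fun b => (hσ _ _ _ fun x => (key b x).symm).symm
  intro i
  have hb : g • π i = π i := hT g hfix (π i)
  let h : stabilizer G b₀ := ⟨_, hh (π i)⟩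
  have h1 : ∀ x : p, S (h • x) = S x := fun x => (σ (T (π i))).injective (by
    have := key (π i) x
    rwa [hfix (π i)] at this)
  have h2 := congrArg Subtype.val (hS h h1 (c i))
  simp only [h, c] at h2
  change ((t (g • π i))⁻¹ * g * t (π i)) • (t (π i))⁻¹ • i = (t (π i))⁻¹ • i at h2
  rw [hb, mul_smul, mul_smul, smul_inv_smul] at h2
  exact smul_left_cancel _ h2

set_option maxHeartbeats 1000000 in
/-- A regular normal subgroup on which the point stabilizer acts irreducibly. -/
theorem coloured_affine {G ι : Type u} [Group G] [Finite G] [MulAction G ι] [FaithfulSMul G ι]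
    (hsol : Group.IsSolvable G) {N : Subgroup G} [N.Normal] (hab : ∀ x ∈ N, ∀ y ∈ N, x * y = y * x)
    (hmin : ∀ L : Subgroup G, L.Normal → L ≤ N → L = ⊥ ∨ L = N) (htr : ∀ i j : ι, ∃ n ∈ N, n • i = j)
    (i₀ : ι) (ih : IH3.{u} (Nat.card (stabilizer G i₀) + 1)) : Coloured5 G ι := by
  classical
  let H := stabilizer G i₀
  letI : CommGroup N := { (inferInstance : Group N) with mul_comm := fun x y => Subtype.ext (hab x x.2 y y.2) }
  letI : MulDistribMulAction H N :=
    MulDistribMulAction.compHom N ((MulAut.conjNormal : G →* MulAut N).comp H.subtype)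
  letI : DistribMulAction H (Additive N) :=
    { smul := fun h x => Additive.ofMul (h • Additive.toMul x)
      one_smul := fun x => congrArg Additive.ofMul (one_smul H (Additive.toMul x))
      mul_smul := fun a b x => congrArg Additive.ofMul (mul_smul a b (Additive.toMul x))
      smul_zero := fun a => congrArg Additive.ofMul (smul_one a)
      smul_add := fun a x y => congrArg Additive.ofMul (smul_mul' a (Additive.toMul x) (Additive.toMul y)) }
  have hcoe : ∀ (h : H) (x : N), ((h • x : N) : G) = (h : G) * x * (h : G)⁻¹ := fun h x => rfl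
  have hfree : ∀ n ∈ N, n • i₀ = i₀ → n = 1 := fun n hn h => eq_of_smul_eq_smul (α := ι) fun i => by
    obtain ⟨m, hm, rfl⟩ := htr i₀ i
    rw [one_smul, ← mul_smul, hab n hn m hm, mul_smul, h]
  have hinj : ∀ x y : N, (x : G) • i₀ = (y : G) • i₀ → x = y := fun x y h => by
    have h1 : y⁻¹ * x = 1 := Subtype.ext (hfree _ (y⁻¹ * x).2 (by
      push_cast
      rw [mul_smul, h, inv_smul_smul]))
    exact (inv_mul_eq_one.mp h1).symm
  have hirr : CR H (Additive N) := by
    intro U hU
    let L : Subgroup G := (AddSubgroup.toSubgroup' U).map N.subtype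
    have hLn : L.Normal := ⟨fun x hx g => by
      obtain ⟨u, hu, rfl⟩ := hx
      obtain ⟨n, hn, hni⟩ := htr i₀ (g • i₀)
      have hk : n⁻¹ * g ∈ H := by rw [mem_stabilizer_iff, mul_smul, ← hni, inv_smul_smul]
      refine ⟨(⟨_, hk⟩ : H) • u, hU ⟨_, hk⟩ (Additive.ofMul u) hu, ?_⟩
      rw [Subgroup.coe_subtype, hcoe]
      have h2 := hab n hn _ ((inferInstance : N.Normal).conj_mem _ u.2 (n⁻¹ * g))
      simp only [Subgroup.coe_subtype] at h2 ⊢
      calc n⁻¹ * g * ↑u * (n⁻¹ * g)⁻¹ = n * (n⁻¹ * g * ↑u * (n⁻¹ * g)⁻¹) * n⁻¹ := by rw [h2, mul_inv_cancel_right]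
        _ = g * ↑u * g⁻¹ := by group⟩
    rcases hmin L hLn (Subgroup.map_subtype_le _) with h | h
    · have hUb : U = ⊥ := (eq_bot_iff).mpr fun x hx => by
        have hx' : ((Additive.toMul x : N) : G) ∈ L := ⟨_, hx, rfl⟩
        rw [h, Subgroup.mem_bot] at hx'
        exact Additive.toMul.injective (Subtype.ext hx')
      subst hUb
      exact ⟨⊤, fun _ _ _ => trivial, bot_inf_eq _, bot_sup_eq _⟩
    · have hUt : U = ⊤ := (eq_top_iff).mpr fun x _ => by
        obtain ⟨y, hy, e⟩ : ((Additive.toMul x : N) : G) ∈ L := h.ge (Additive.toMul x).2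
        have e' : Additive.ofMul y = x := congrArg Additive.ofMul (Subtype.ext e : y = Additive.toMul x)
        rw [← e']
        exact hy
      subst hUt
      exact ⟨⊥, fun a v hv => by rw [AddSubgroup.mem_bot] at hv ⊢; rw [hv, smul_zero], inf_bot_eq _, sup_bot_eq _⟩
  haveI := hsol
  obtain ⟨t, ht⟩ := ih H (Additive N) (Nat.lt_succ_self _) inferInstance hirr
  let b : Fin 3 → ι := fun k => ((Additive.toMul (t k) : N) : G) • i₀
  let c : ι → Fin 5 := fun i =>
    if i = i₀ then 1 else if i = b 0 then 2 else if i = b 1 then 3 else if i = b 2 then 4 else 0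
  refine ⟨c, fun g hg => ?_⟩
  suffices g = 1 by intro i; rw [this, one_smul]
  let P : Fin 5 → ι := ![i₀, i₀, b 0, b 1, b 2]
  have hP : ∀ j, c j ≠ 0 → j = P (c j) := by
    intro j
    by_cases h1 : j = i₀
    · intro _; simp [c, P, h1]
    by_cases h2 : j = b 0
    · intro _; simp only [c, if_neg h1, if_pos h2]; simp [P, h2]
    by_cases h3 : j = b 1
    · intro _; simp only [c, if_neg h1, if_neg h2, if_pos h3]; simp [P, h3]
    by_cases h4 : j = b 2
    · intro _; simp only [c, if_neg h1, if_neg h2, if_neg h3, if_pos h4]; simp [P, h4]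
    · intro h; simp [c, h1, h2, h3, h4] at h
  have hfixpt : ∀ i, c i ≠ 0 → g • i = i := fun i h0 => by
    rw [hP (g • i) (by rw [hg]; exact h0), hg, ← hP i h0]
  have h0 : g • i₀ = i₀ := hfixpt i₀ (by simp [c])
  have hzero : ∀ j, c j = 0 → ∀ k, j ≠ b k := by
    intro j hj
    have n1 : j ≠ i₀ := fun e => by simp [c, e] at hj
    have n2 : j ≠ b 0 := fun e => by
      simp only [c, if_neg n1, if_pos e] at hj
      exact absurd hj (by decide)
    have n3 : j ≠ b 1 := fun e => by
      simp only [c, if_neg n1, if_neg n2, if_pos e] at hj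
      exact absurd hj (by decide)
    have n4 : j ≠ b 2 := fun e => by
      simp only [c, if_neg n1, if_neg n2, if_neg n3, if_pos e] at hj
      exact absurd hj (by decide)
    intro k
    match k with
    | 0 => exact n2
    | 1 => exact n3
    | 2 => exact n4
  have hb : ∀ k, g • b k = b k := fun k => hfixpt _ fun hz => hzero _ hz k rfl
  have hconj : ∀ x : N, g • (x : G) • i₀ = (x : G) • i₀ → g * x * g⁻¹ = x := fun x hx =>
    congrArg Subtype.val (hinj ⟨g * x * g⁻¹, (inferInstance : N.Normal).conj_mem _ x.2 g⟩ x (by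
      show (g * (x : G) * g⁻¹) • i₀ = (x : G) • i₀
      rw [mul_smul, mul_smul, show g⁻¹ • i₀ = i₀ by rw [inv_smul_eq_iff, h0], hx]))
  have h1 : ∀ x : N, g * (x : G) * g⁻¹ = x := fun x =>
    congrArg (fun y => ((Additive.toMul y : N) : G))
      (ht ⟨g, h0⟩ (fun k => congrArg Additive.ofMul (Subtype.ext (hconj _ (hb k)))) (Additive.ofMul x))
  refine eq_of_smul_eq_smul (α := ι) fun i => ?_
  obtain ⟨n, hn, rfl⟩ := htr i₀ i
  rw [one_smul, ← mul_smul, show g * n = n * g from mul_inv_eq_iff_eq_mul.mp (h1 ⟨n, hn⟩), mul_smul, h0]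

/-- A solvable group has such a colouring on any finite set. -/
theorem coloured_of_IH {M : ℕ} (hM : IH3.{u} M) : ∀ (k : ℕ) (G ι : Type u) [Group G] [Finite G] [MulAction G ι]
    [Finite ι], Nat.card ι = k → Nat.card G ≤ M → Group.IsSolvable G → Coloured5 G ι := by
  intro k
  induction k using Nat.strong_induction_on with
  | _ k ihk =>
  intro G ι _ _ _ _ hk hGM hsol
  classical
  by_cases hsub : Subsingleton ι
  · exact ⟨fun _ => 0, fun g _ i => Subsingleton.elim _ _⟩
  rw [not_subsingleton_iff_nontrivial] at hsub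
  by_cases htrans : IsPretransitive G ι
  swap
  · obtain ⟨i₀⟩ : Nonempty ι := inferInstance
    have hO : ∀ (g : G) i, g • i ∈ orbit G i₀ ↔ i ∈ orbit G i₀ := fun g i => by
      rw [← orbit_eq_iff, orbit_smul, orbit_eq_iff]
    have hlt : ∀ s : Set ι, s ≠ Set.univ → Nat.card s < k := fun s hs => hk ▸ by
      rw [Nat.card_coe_set_eq, ← Set.ncard_univ]
      exact Set.ncard_lt_ncard (Set.ssubset_univ_iff.mpr hs)
    refine coloured_split (orbit G i₀) hO (fun p hp => ?_) fun p hp => ?_
    · refine ihk _ (hlt p fun h => htrans ⟨fun x y => ?_⟩) G p rfl hGM hsol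
      obtain ⟨a, rfl⟩ := (hp x).mp (h.ge trivial)
      obtain ⟨b, rfl⟩ := (hp y).mp (h.ge trivial)
      exact ⟨b * a⁻¹, by rw [mul_smul, inv_smul_smul]⟩
    · exact ihk _ (hlt p fun h => (hp i₀).mp (h.ge trivial) (mem_orbit_self i₀)) G p rfl hGM hsol
  let Gb : Subgroup (Equiv.Perm ι) := (MulAction.toPermHom G ι).range
  suffices h : Coloured5 Gb ι by
    obtain ⟨S, hS⟩ := h
    exact ⟨S, fun g hg i => hS ⟨_, g, rfl⟩ hg i⟩
  have hsol' : Group.IsSolvable Gb := Group.isSolvable_of_surjective (MulAction.toPermHom G ι).rangeRestrict_surjective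
  have hGbM : Nat.card Gb ≤ M := (Nat.le_of_dvd Nat.card_pos
    (Subgroup.card_dvd_of_surjective _ (MulAction.toPermHom G ι).rangeRestrict_surjective)).trans hGM
  haveI : IsPretransitive Gb ι := ⟨fun x y => by
    obtain ⟨g, hg⟩ := exists_smul_eq G x y
    exact ⟨⟨_, g, rfl⟩, hg⟩⟩
  haveI : Nontrivial Gb := by
    obtain ⟨x, y, hxy⟩ := hsub
    obtain ⟨g, hg⟩ := exists_smul_eq Gb x y
    exact ⟨⟨g, 1, fun h => hxy (by rw [← hg, h, one_smul])⟩⟩
  obtain ⟨N, hNn, -, hN, hab, hmin⟩ := exists_minimal_abelian (G := Gb) (N := ⊤) top_ne_bot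
  haveI := hNn
  obtain ⟨i₀⟩ : Nonempty ι := inferInstance
  by_cases hNt : ∀ i j : ι, ∃ n ∈ N, n • i = j
  · refine coloured_affine hsol' hab hmin hNt i₀ fun A V _ _ _ _ _ hA => hM A V ?_
    have hlt : Nat.card (stabilizer Gb i₀) < Nat.card Gb := by
      refine lt_of_le_of_ne (Subgroup.card_le_card_group _) fun h => ?_
      have htop := Subgroup.eq_top_of_card_eq _ h
      obtain ⟨x, y, hxy⟩ := hsub
      obtain ⟨g, hg⟩ := exists_smul_eq Gb i₀ x
      obtain ⟨g', hg'⟩ := exists_smul_eq Gb i₀ y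
      have e1 : g • i₀ = i₀ := mem_stabilizer_iff.mp (htop.ge (Subgroup.mem_top g))
      have e2 : g' • i₀ = i₀ := mem_stabilizer_iff.mp (htop.ge (Subgroup.mem_top g'))
      exact hxy (hg.symm.trans (e1.trans (e2.symm.trans hg')))
    omega
  -- the orbits of the normal subgroup are blocks
  let r : Setoid ι := orbitRel N ι
  have hr : ∀ (g : Gb) {x y : ι}, r x y → r (g • x) (g • y) := by
    rintro g x y ⟨n, rfl⟩
    exact ⟨⟨g * n * g⁻¹, hNn.conj_mem _ n.2 g⟩, show ((g * n * g⁻¹ : Gb)) • g • y = g • (n : Gb) • y by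
      rw [mul_smul, mul_smul, inv_smul_smul]⟩
  letI : MulAction Gb (Quotient r) :=
    { smul := fun g => Quotient.map' (g • ·) fun x y h => hr g h
      one_smul := fun q => Quotient.inductionOn' q fun x => congrArg (Quotient.mk r) (one_smul _ x)
      mul_smul := fun a b q => Quotient.inductionOn' q fun x => congrArg (Quotient.mk r) (mul_smul a b x) }
  haveI : IsPretransitive Gb (Quotient r) := ⟨fun a b => Quotient.inductionOn₂' a b fun x y => by
    obtain ⟨g, hg⟩ := exists_smul_eq Gb x y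
    exact ⟨g, congrArg (Quotient.mk r) hg⟩⟩
  obtain ⟨n, hn, hn1⟩ := N.bot_or_exists_ne_one.resolve_left hN
  obtain ⟨i, hi⟩ : ∃ i : ι, n • i ≠ i := by
    by_contra h
    push Not at h
    exact hn1 (eq_of_smul_eq_smul (α := ι) fun i => by rw [one_smul, h i])
  have hquot : Nat.card (Quotient r) < k := by
    rw [← hk]
    refine lt_of_le_of_ne (Nat.card_le_card_of_surjective _ Quotient.mk''_surjective) fun h => hi ?_
    have hb := (Nat.bijective_iff_surjective_and_card (Quotient.mk'' : ι → Quotient r)).mpr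
      ⟨Quotient.mk''_surjective, h.symm⟩
    exact hb.1 (Quotient.sound' ⟨⟨n, hn⟩, rfl⟩)
  haveI := hsol'
  refine coloured_blocks hsol' (Quotient.mk r) (fun g x => rfl) (Quotient.mk r i₀) ⟨i₀, rfl⟩
    (ihk _ hquot Gb (Quotient r) rfl hGbM hsol') fun p hp => ?_
  refine ihk _ ?_ _ p rfl ((Subgroup.card_le_card_group _).trans hGbM) inferInstance
  rw [← hk]
  refine lt_of_le_of_ne (Nat.card_le_card_of_injective _ Subtype.val_injective) fun h => hNt fun x y => ?_
  have hb := (Nat.bijective_iff_injective_and_card (Subtype.val : p → ι)).mpr ⟨Subtype.val_injective, h⟩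
  obtain ⟨x', rfl⟩ := hb.2 x
  obtain ⟨y', rfl⟩ := hb.2 y
  obtain ⟨m, hm⟩ := Quotient.exact (((hp _).mp y'.2).trans ((hp _).mp x'.2).symm)
  exact ⟨m, m.2, hm⟩

end CfsgLib.BaseThree
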