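import Cfsg.Agent.Lib.BaseThree.Colour

/-!
An irreducible module of a solvable group with three vectors of trivial stabilizer has five inequivalent such
triples.
-/

set_option autoImplicit false

namespace CfsgLib.BaseThree

open MulAction CfsgLib.OddBase
open scoped commutatorElement

universe u

/-- An elementary transvection over the integers. -/
def tv (i j : Fin 3) (c : ℤ) : Matrix (Fin 3) (Fin 3) ℤ :=
  Matrix.of fun a b => (if a = b then 1 else 0) + if a = i ∧ b = j then c else 0

theorem tv_inv : ∀ i j : Fin 3, i ≠ j → tv i j 1 * tv i j (-1) = 1 ∧ tv i j (-1) * tv i j 1 = 1 := by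
  decide +kernel

theorem tv_comm : ∀ i j k : Fin 3, i ≠ j → i ≠ k → k ≠ j →
    tv i k 1 * tv k j 1 * tv i k (-1) * tv k j (-1) = tv i j 1 := by
  decide +kernel

/-- The linear group of degree three over a prime field is insoluble. -/
theorem not_solvable_gl3 (p : ℕ) [Fact p.Prime] : ¬ Group.IsSolvable (GL (Fin 3) (ZMod p)) := by
  intro h
  let f : Matrix (Fin 3) (Fin 3) ℤ →+* Matrix (Fin 3) (Fin 3) (ZMod p) := (Int.castRingHom (ZMod p)).mapMatrix
  let T : (i j : Fin 3) → i ≠ j → GL (Fin 3) (ZMod p) := fun i j hij =>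
    Units.map f.toMonoidHom ⟨tv i j 1, tv i j (-1), (tv_inv i j hij).1, (tv_inv i j hij).2⟩
  have hmem : ∀ n i j (hij : i ≠ j), T i j hij ∈ derivedSeries (GL (Fin 3) (ZMod p)) n := by
    intro n
    induction n with
    | zero => exact fun i j hij => Subgroup.mem_top _
    | succ n ih =>
      intro i j hij
      obtain ⟨k, hk1, hk2⟩ : ∃ k : Fin 3, i ≠ k ∧ k ≠ j := by
        revert i j; decide
      have e : ⁅T i k hk1, T k j hk2⁆ = T i j hij := by
        apply Units.ext
        rw [commutatorElement_def]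
        simp only [T, ← map_inv, ← map_mul, Units.coe_map, RingHom.toMonoidHom_eq_coe]
        exact congrArg f (tv_comm i j k hij hk1 hk2)
      rw [← e]
      exact Subgroup.commutator_mem_commutator (ih i k hk1) (ih k j hk2)
  obtain ⟨n, hn⟩ := (Group.isSolvable_def _).mp h
  have h01 : (0 : Fin 3) ≠ 1 := by decide
  have h1 := hmem n 0 1 h01
  rw [hn, Subgroup.mem_bot] at h1
  have h2 := congrArg (fun M : GL (Fin 3) (ZMod p) => (M : Matrix (Fin 3) (Fin 3) (ZMod p)) 0 1) h1
  simp [T, f, tv] at h2

variable {H W : Type u} [Group H] [AddCommGroup W] [DistribMulAction H W]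

/-- Five inequivalent triples with trivial stabilizer. -/
def HasFive (H W : Type u) [Group H] [AddCommGroup W] [DistribMulAction H W] : Prop :=
  ∃ P : Fin 5 → Fin 3 → W, (∀ b (a : H), (∀ k, a • P b k = P b k) → ∀ x : W, a • x = x) ∧
    ∀ b c (a : H), (∀ k, a • P b k = P c k) → b = c

theorem fin3_others : ∀ k : Fin 3, ∃ l m : Fin 3, k ≠ l ∧ k ≠ m ∧ l ≠ m ∧ ∀ i, i ≠ k → i = l ∨ i = m := by
  decide +kernel

theorem five_of_one {u : W} (hu : u ≠ 0) (h : ∀ a : H, a • u = u → ∀ x : W, a • x = x) : HasFive H W := by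
  classical
  let pat : Fin 5 → Fin 3 → Bool := ![![true, false, false], ![false, true, false], ![false, false, true],
    ![true, true, false], ![true, false, true]]
  have hinj : Function.Injective pat := by
    unfold Function.Injective; decide
  have hex : ∀ b, ∃ k, pat b k = true := by decide
  refine ⟨fun b k => if pat b k then u else 0, fun b a ha => ?_, fun b c a ha => hinj (funext fun k => ?_)⟩
  · obtain ⟨k, hk⟩ := hex b
    have := ha k
    simp only [hk, if_true] at this
    exact h a this
  · have := ha k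
    rcases Bool.eq_false_or_eq_true (pat b k) with hb | hb <;>
      rcases Bool.eq_false_or_eq_true (pat c k) with hc | hc <;> simp only [hb, hc] at this ⊢
    · simp only [if_true, Bool.false_eq_true, if_false, smul_eq_zero_iff_eq] at this
      exact absurd this hu
    · simp only [if_true, Bool.false_eq_true, if_false, smul_zero] at this
      exact absurd this.symm hu

theorem five_of_two {u w : W} (hu : u ≠ 0) (hw : w ≠ 0) (huw : u ≠ w)
    (h : ∀ a : H, a • u = u → a • w = w → ∀ x : W, a • x = x) : HasFive H W := by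
  classical
  let val : Fin 3 → W := ![0, u, w]
  have hval : Function.Injective val := by
    intro i j
    fin_cases i <;> fin_cases j <;> simp [val, hu, hw, huw, Ne.symm hu, Ne.symm hw, Ne.symm huw]
  let pat : Fin 5 → Fin 3 → Fin 3 := ![![1, 2, 0], ![1, 0, 2], ![0, 1, 2], ![1, 2, 1], ![1, 1, 2]]
  have hex : ∀ b, (∃ k, pat b k = 1) ∧ ∃ k, pat b k = 2 := by decide
  have hpat : ∀ b c, (∀ k, pat b k = 0 ↔ pat c k = 0) → (∀ k l, pat b k = pat b l ↔ pat c k = pat c l) → b = c := by
    decide +kernel
  have hv0 : ∀ i, val i = 0 ↔ i = 0 := fun i => ⟨fun e => hval (e.trans rfl), fun e => by rw [e]; rfl⟩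
  refine ⟨fun b k => val (pat b k), fun b a ha => ?_, fun b c a ha => ?_⟩
  pick_goal 2
  · replace ha : ∀ k, a • val (pat b k) = val (pat c k) := ha
    refine hpat b c (fun k => ?_) fun k l => ?_
    · rw [← hv0, ← hv0, ← ha k, smul_eq_zero_iff_eq]
    · rw [← hval.eq_iff, ← hval.eq_iff (a := pat c k), ← ha k, ← ha l]
      exact ⟨fun e => by rw [e], fun e => smul_left_cancel a e⟩
  · obtain ⟨⟨k, hk⟩, l, hl⟩ := hex b
    have h1 := ha k
    have h2 := ha l
    simp only [hk] at h1
    simp only [hl] at h2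
    exact h a h1 h2

variable [Finite W]

theorem five_triples (hsol : Group.IsSolvable H) (hirr : Irr H W) (hT : Triple H W) : HasFive H W := by
  classical
  obtain ⟨x₀, hx₀⟩ := hirr.1
  -- one vector suffices
  by_cases h1 : ∃ u : W, ∀ a : H, a • u = u → ∀ x : W, a • x = x
  · obtain ⟨u, hu⟩ := h1
    by_cases hu0 : u = 0
    · subst hu0
      exact five_of_one hx₀ fun a _ => hu a (smul_zero a)
    · exact five_of_one hu0 hu
  push Not at h1
  -- two vectors suffice
  by_cases h2 : ∃ u w : W, ∀ a : H, a • u = u → a • w = w → ∀ x : W, a • x = x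
  · obtain ⟨u, w, hh⟩ := h2
    have bad : ∀ z : W, (∀ a : H, a • z = z → ∀ x : W, a • x = x) → False := fun z hz => by
      obtain ⟨a, ha, x, hx⟩ := h1 z
      exact hx (hz a ha x)
    refine five_of_two (fun e => bad w fun a ha => hh a (by rw [e, smul_zero]) ha)
      (fun e => bad u fun a ha => hh a ha (by rw [e, smul_zero]))
      (fun e => bad u fun a ha => hh a ha (by rw [← e]; exact ha)) hh
  push Not at h2
  obtain ⟨t, ht⟩ := hT
  haveI : Nontrivial W := ⟨⟨x₀, 0, hx₀⟩⟩
  obtain ⟨p, hp, hpd⟩ := Nat.exists_prime_and_dvd (n := Nat.card W) Finite.one_lt_card.ne'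
  haveI := Fact.mk hp
  have hpx : ∀ x : W, p • x = 0 := by
    let U : AddSubgroup W := (nsmulAddMonoidHom p : W →+ W).range
    rcases hirr.2 U (fun a y hy => by
      obtain ⟨x, rfl⟩ := hy
      exact ⟨a • x, (map_nsmul (DistribMulAction.toAddMonoidHom W a) p x).symm⟩) with h | h
    · exact fun x => AddSubgroup.mem_bot.mp (h.le (show p • x ∈ U from ⟨x, rfl⟩))
    · exfalso
      obtain ⟨y, hy⟩ := exists_prime_addOrderOf_dvd_card' p hpd
      have hbij := (Nat.bijective_iff_surjective_and_card (nsmulAddMonoidHom p : W →+ W)).mpr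
        ⟨AddMonoidHom.range_eq_top.mp h, rfl⟩
      have : y = 0 := hbij.1 (show p • y = p • 0 by rw [nsmul_zero, ← hy, addOrderOf_nsmul_eq_zero])
      rw [this, addOrderOf_zero] at hy
      exact hp.one_lt.ne hy
  haveI : Module (ZMod p) W := AddCommGroup.zmodModule hpx
  have hlin : ∀ (c : ZMod p) (a : H) (x : W), a • c • x = c • a • x := fun c a x =>
    ZMod.map_smul (DistribMulAction.toAddMonoidHom W a) c x
  -- independence
  have hind : ∀ c : Fin 3 → ZMod p, ∑ j, c j • t j = 0 → c = 0 := by
    intro c hc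
    funext k
    by_contra hk
    have hk' : c k ≠ 0 := hk
    obtain ⟨l, m, hkl, hkm, hlm, hoth⟩ := fin3_others k
    obtain ⟨a, ha, hb, x, hx⟩ := h2 (t l) (t m)
    refine hx (ht a (fun i => ?_) x)
    have hfix : ∀ i, i ≠ k → a • t i = t i := fun i hi => by
      rcases hoth i hi with rfl | rfl
      · exact ha
      · exact hb
    by_cases hi : i = k
    · subst hi
      have h3 : ∑ j, c j • (a • t j - t j) = 0 := by
        simp only [smul_sub, Finset.sum_sub_distrib, hc, ← hlin, ← Finset.smul_sum, smul_zero, sub_zero]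
      rw [Finset.sum_eq_single i (fun j _ hj => by rw [hfix j hj, sub_self, smul_zero]) (by simp)] at h3
      exact sub_eq_zero.mp ((smul_eq_zero.mp h3).resolve_left hk')
    · exact hfix i hi
  letI : MulAction (GL (Fin 3) (ZMod p)) (Fin 3 → W) :=
    { smul := fun M d i => ∑ j, (M : Matrix (Fin 3) (Fin 3) (ZMod p)) i j • d j
      one_smul := fun d => funext fun i => by
        show ∑ j, ((1 : GL (Fin 3) (ZMod p)) : Matrix (Fin 3) (Fin 3) (ZMod p)) i j • d j = d i
        rw [Finset.sum_eq_single i (fun j _ hj => by simp [Matrix.one_apply, Ne.symm hj]) (by simp)]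
        simp
      mul_smul := fun M N d => funext fun i => by
        show ∑ j, ((M * N : GL (Fin 3) (ZMod p)) : Matrix (Fin 3) (Fin 3) (ZMod p)) i j • d j = ∑ k, _ • ∑ j, _ • d j
        simp only [Units.val_mul, Matrix.mul_apply, Finset.sum_smul, Finset.smul_sum, smul_smul]
        exact Finset.sum_comm }
  letI : MulAction H (Fin 3 → W) :=
    { smul := fun a d i => a • d i
      one_smul := fun d => funext fun i => one_smul H (d i)
      mul_smul := fun a b d => funext fun i => mul_smul a b (d i) }
  have hcomm : ∀ (M : GL (Fin 3) (ZMod p)) (a : H) (d : Fin 3 → W), a • M • d = M • a • d := fun M a d =>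
    funext fun i => by
      show a • ∑ j, (M : Matrix (Fin 3) (Fin 3) (ZMod p)) i j • d j = ∑ j, (M : Matrix (Fin 3) (Fin 3) (ZMod p)) i j • a • d j
      simp only [Finset.smul_sum, hlin]
  have hst : ∀ M ∈ stabilizer (GL (Fin 3) (ZMod p)) t, M = 1 := fun M hM => by
    apply Units.ext
    ext i j
    have h1 : ∑ k, (M : Matrix (Fin 3) (Fin 3) (ZMod p)) i k • t k = t i := congrFun (mem_stabilizer_iff.mp hM) i
    have h3 := hind (fun k => (M : Matrix (Fin 3) (Fin 3) (ZMod p)) i k - if i = k then 1 else 0) (by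
      simp only [sub_smul, Finset.sum_sub_distrib, h1, ite_smul, one_smul, zero_smul, Finset.sum_ite_eq,
        Finset.mem_univ, if_true, sub_self])
    simpa [Matrix.one_apply, sub_eq_zero] using congrFun h3 j
  have hstab : Group.IsSolvable (stabilizer (GL (Fin 3) (ZMod p)) t) := by
    haveI : Subsingleton (stabilizer (GL (Fin 3) (ZMod p)) t) :=
      ⟨fun x y => Subtype.ext ((hst x x.2).trans (hst y y.2).symm)⟩
    infer_instance
  obtain ⟨σ, hσ⟩ := five_classes hcomm (not_solvable_gl3 p) hsol t hstab
  refine ⟨fun b => σ b • t, fun b a ha => ht a fun k => ?_, fun b c a ha => hσ b c a (funext ha)⟩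
  have h3 : a • σ b • t = σ b • t := funext ha
  rw [hcomm] at h3
  exact congrFun (smul_left_cancel _ h3) k

end CfsgLib.BaseThree
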