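import Cfsg.Agent.Lib.BaseThree.Prim
import Cfsg.Agent.Lib.BaseThree.Colour

/-!
Three vectors when a maximal abelian normal subgroup generates a field.
-/

set_option autoImplicit false

namespace CfsgLib.BaseThree

open Subgroup CfsgLib.OddBase
open scoped commutatorElement

universe u

variable {A V : Type u} [Group A] [Finite A] [AddCommGroup V] [Finite V] [DistribMulAction A V]
  {Z : Subgroup A}

/-- Three vectors in the field case. -/
theorem field_triple (h : Setup A V Z) (hsol : Group.IsSolvable A) (hne : ∃ x : V, x ≠ 0) : Triple A V := by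
  classical
  haveI := h.normal
  haveI := h.faith
  obtain ⟨v, hv⟩ := hne
  suffices hT : ∃ t : Fin 3 → V, ∀ g : A, (∀ k, g • t k = t k) → g = 1 by
    obtain ⟨t, ht⟩ := hT
    exact ⟨t, fun a ha x => by rw [ht a ha, one_smul]⟩
  by_cases hCZ : centralizer (Z : Set A) ≤ Z
  · obtain ⟨z₀, hz₀, hgen⟩ := exists_gen h
    refine ⟨![v, z₀ • v, v], fun a hfix => ?_⟩
    have ha : a • v = v := by simpa using hfix 0
    have haz : a • z₀ • v = z₀ • v := by simpa using hfix 1
    have hconj : a * z₀ * a⁻¹ ∈ Z := h.normal.conj_mem _ hz₀ a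
    have e : (a * z₀ * a⁻¹) • v = z₀ • v := by
      rw [mul_smul, mul_smul, show a⁻¹ • v = v by rw [inv_smul_eq_iff, ha], haz]
    have hac : a * z₀ * a⁻¹ = z₀ := by
      by_contra hcon
      refine hv (h.fx_center (Z.mul_mem (Z.inv_mem hz₀) hconj) (fun e1 => hcon (inv_mul_eq_one.mp e1).symm) ?_)
      rw [mul_smul, e, inv_smul_smul]
    by_contra hcon
    exact hv (h.fx_center (hCZ (mem_cent_of_gen hgen hac)) hcon ha)
  haveI : Group.IsSolvable A := hsol
  obtain ⟨F, L, hf⟩ := exists_frame h
  have hFZ : ¬ F ≤ Z := fun hle => hCZ fun x hx =>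
    hf.centre x hx fun y hy => hf.central_left hx (hle hy)
  obtain ⟨u, hu⟩ := exists_maxLine hf hv
  by_cases hall : F₀ hf u = F
  · exact small_triple hf hFZ hu hall
  · refine main_triple hu hall ?_
    by_contra hcon
    push Not at hcon
    exact hFZ fun x hx => hf.centre_F hx fun y hy => hcon _ (hf.comm x hx y hy)

end CfsgLib.BaseThree
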