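import Cfsg.Agent.Lib.BaseThree.TwoGen

/-!
Two generators for the centralizer of a maximal line stabilizer, and the case where it is everything.
-/

set_option autoImplicit false

namespace CfsgLib.BaseThree

open Subgroup CfsgLib.OddBase
open scoped commutatorElement

universe u

variable {A V : Type u} [Group A] [Finite A] [AddCommGroup V] [Finite V] [DistribMulAction A V]
  {Z F L₀ : Subgroup A}

theorem mem_of_coprime_pow {H : Subgroup A} {x : A} {s m : ℕ} (hc : Nat.Coprime s m) (h1 : x ^ s ∈ H)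
    (h2 : x ^ m ∈ H) : x ∈ H := by
  have h3 := H.mul_mem (H.zpow_mem h1 (Nat.gcdA s m)) (H.zpow_mem h2 (Nat.gcdB s m))
  rwa [← zpow_natCast, ← zpow_natCast, ← zpow_mul, ← zpow_mul, ← zpow_add, ← Nat.gcd_eq_gcd_ab, hc.gcd_eq_one,
    Nat.cast_one, zpow_one] at h3

omit [Finite A] [Finite V] in
theorem comm_pow (hf : Frame A V Z F L₀) {x y : A} (hx : x ∈ F) (hy : y ∈ F) (k : ℕ) :
    ⁅x ^ k, y⁆ = ⁅x, y⁆ ^ k := by
  induction k with
  | zero => simp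
  | succ k ih =>
    rw [pow_succ', comm_mul_left, ih, central_conj (hf.cent hx) (pow_mem (hf.comm x hx y hy) k), ← pow_succ]

omit [Finite A] [Finite V] in
theorem comm_pow_right (hf : Frame A V Z F L₀) {x y : A} (hx : x ∈ F) (hy : y ∈ F) (k : ℕ) :
    ⁅x, y ^ k⁆ = ⁅x, y⁆ ^ k := by
  rw [← commutatorElement_inv, comm_pow hf hy hx, ← commutatorElement_inv x y, inv_pow, inv_inv]

omit [Finite A] [Finite V] in
theorem mul_pow_formula (hf : Frame A V Z F L₀) {x y : A} (hx : x ∈ F) (hy : y ∈ F) : ∀ n : ℕ,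
    (x * y) ^ n = x ^ n * y ^ n * ⁅y, x⁆ ^ n.choose 2
  | 0 => by simp
  | n + 1 => by
    have hz : ⁅y, x⁆ ∈ Z := hf.comm y hy x hx
    have hc : ∀ (g : A), g ∈ F → ∀ k : ℕ, Commute (⁅y, x⁆ ^ k) g := fun g hg k =>
      Subgroup.mem_centralizer_iff.mp (hf.cent hg) _ (pow_mem hz k)
    have e1 : y ^ n * x = ⁅y, x⁆ ^ n * (x * y ^ n) := by
      rw [← comm_pow hf hy hx, commutatorElement_def]; group
    rw [pow_succ, mul_pow_formula hf hx hy n, show (n + 1).choose 2 = n + n.choose 2 by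
      rw [Nat.choose_succ_succ', Nat.choose_one_right], pow_add]
    calc x ^ n * y ^ n * ⁅y, x⁆ ^ n.choose 2 * (x * y)
        = x ^ n * y ^ n * ((x * y) * ⁅y, x⁆ ^ n.choose 2) := by
          rw [mul_assoc (x ^ n * y ^ n), (hc (x * y) (F.mul_mem hx hy) (n.choose 2)).eq]
      _ = x ^ n * (y ^ n * x) * y * ⁅y, x⁆ ^ n.choose 2 := by simp [mul_assoc]
      _ = x ^ n * (x * y ^ n * y * ⁅y, x⁆ ^ n) * ⁅y, x⁆ ^ n.choose 2 := by
          rw [e1, (hc (x * y ^ n) (F.mul_mem hx (pow_mem hy n)) n).eq]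
          simp only [mul_assoc]
          rw [← mul_assoc (⁅y, x⁆ ^ n) y, (hc y hy n).eq, mul_assoc]
      _ = _ := by rw [pow_succ x, pow_succ y]; simp [mul_assoc, pow_add]

theorem mul_pow_mem (hf : Frame A V Z F L₀) {x y : A} (hx : x ∈ F) (hy : y ∈ F) {n : ℕ} {H : Subgroup A}
    (hZ : Z ≤ H) (h1 : x ^ n ∈ H) (h2 : y ^ n ∈ H) : (x * y) ^ n ∈ H := by
  rw [mul_pow_formula hf hx hy]
  exact H.mul_mem (H.mul_mem h1 h2) (hZ (pow_mem (hf.comm y hy x hx) _))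

omit [Finite V] in
/-- A square-free exponent whose primes are orders of central elements. -/
theorem root_exponent (hf : Frame A V Z F L₀) : ∃ N, Squarefree N ∧ (∀ x ∈ F, x ^ N ∈ Z) ∧
    ∀ s, s.Prime → s ∣ N → (∃ x ∈ F, x ^ s ∈ Z ∧ x ∉ Z) ∧ ∃ z ∈ Z, orderOf z = s := by
  classical
  have hex : ∃ N, 0 < N ∧ ∀ x ∈ F, x ^ N ∈ Z :=
    ⟨Nat.card A, Nat.card_pos, fun x _ => by rw [pow_card_eq_one']; exact one_mem Z⟩
  obtain ⟨hpos, hN⟩ := Nat.find_spec hex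
  refine ⟨Nat.find hex, ?_, hN, fun s hs hd => ?_⟩
  · rw [Nat.squarefree_iff_prime_squarefree]
    intro s hs hd
    obtain ⟨c, hc⟩ := hd
    have hc0 : 0 < s * c := by
      rcases Nat.eq_zero_or_pos (s * c) with h | h
      · rw [mul_assoc, h, mul_zero] at hc
        omega
      · exact h
    refine Nat.find_min hex (m := s * c) ?_ ⟨hc0, hf.exponent_halve (s * c) fun x hx => ?_⟩
    · rw [hc, mul_assoc]
      exact lt_mul_of_one_lt_left hc0 hs.one_lt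
    · rw [show s * c * (s * c) = Nat.find hex * c by rw [hc]; ring, pow_mul]
      exact pow_mem (hN x hx) c
  · obtain ⟨m, hm⟩ := hd
    have hm0 : 0 < m := Nat.pos_of_ne_zero fun h0 => by rw [h0, mul_zero] at hm; omega
    obtain ⟨y, hy, hyZ⟩ : ∃ y ∈ F, y ^ m ∉ Z := by
      by_contra hcon
      push Not at hcon
      refine Nat.find_min hex (m := m) ?_ ⟨hm0, hcon⟩
      rw [hm]
      exact lt_mul_of_one_lt_left hm0 hs.one_lt
    have hys : (y ^ m) ^ s ∈ Z := by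
      rw [← pow_mul, mul_comm, ← hm]
      exact hN y hy
    refine ⟨⟨_, pow_mem hy m, hys, hyZ⟩, hf.prime_dvd hs ?_⟩
    haveI := hf.base.normal
    haveI := Fact.mk hs
    have h1 : orderOf (QuotientGroup.mk (⟨_, pow_mem hy m⟩ : F) : F ⧸ Z.subgroupOf F) = s :=
      orderOf_eq_prime (by rw [← QuotientGroup.mk_pow, QuotientGroup.eq_one_iff]; exact hys) fun h => hyZ
        ((QuotientGroup.eq_one_iff (⟨_, pow_mem hy m⟩ : F)).mp h)
    exact h1 ▸ orderOf_dvd_natCard _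

theorem exists_scalar (hf : Frame A V Z F L₀) {u : V} {x : A} (hx : x ∈ LS hf u) :
    ∃ r : Sc V Z, r ≠ 0 ∧ x • u = r.1 u := by
  obtain ⟨-, r, hr, hr0, e⟩ := hx
  exact ⟨⟨r, hr⟩, fun h => hr0 (congrArg Subtype.val h), e⟩

/-- Commuting elements of prime exponent over the line stabilizer. -/
theorem mem_of_commute (hf : Frame A V Z F L₀) {u : V} (hu : MaxLine hf u) {s : ℕ} (hs : s.Prime) {z : A}
    (hz : z ∈ Z) (hzo : orderOf z = s) {a x : A} (ha : a ∈ F₀ hf u) (has : a ^ s ∈ LS hf u) (haL : a ∉ LS hf u)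
    (hx : x ∈ F₀ hf u) (hxs : x ^ s ∈ LS hf u) (hax : ⁅x, a⁆ ^ s.choose 2 = 1) :
    ∃ i : ℕ, x * (a ^ i)⁻¹ ∈ LS hf u := by
  letI : Field (Sc V Z) := hf.base.field.toField
  obtain ⟨α, hα0, hα⟩ := exists_scalar hf has
  obtain ⟨β, hβ0, hβ⟩ := exists_scalar hf hxs
  have hnp : ∀ r : Sc V Z, r ^ s ≠ α := fun r hr => haL (mem_LS_of_pow hu ha hs hz hzo r.2 (by
    rw [hα, ← hr]; rfl))
  obtain ⟨i, r, hir⟩ := power_class hs hα0 hnp hβ0
  refine ⟨i, mem_LS_of_pow hu ((F₀ hf u).mul_mem hx ((F₀ hf u).inv_mem (pow_mem ha i))) hs hz hzo r.2 ?_⟩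
  have hai : (a ^ i)⁻¹ ∈ F := F.inv_mem (pow_mem ha.1 i)
  rw [mul_pow_formula hf hx.1 hai]
  have hone : ⁅(a ^ i)⁻¹, x⁆ ^ s.choose 2 = 1 := by
    have h1 : ⁅(a ^ i)⁻¹, x⁆ = ⁅x, a⁆ ^ i := by
      have e : ⁅(a ^ i)⁻¹, x⁆ = (a ^ i)⁻¹ * ⁅a ^ i, x⁆⁻¹ * (a ^ i)⁻¹⁻¹ := by simp [commutatorElement_def, mul_assoc]
      rw [e, central_conj (hf.cent hai) (Z.inv_mem (hf.comm _ (pow_mem ha.1 i) x hx.1)), commutatorElement_inv,
        comm_pow_right hf hx.1 ha.1]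
    rw [h1, ← pow_mul, mul_comm, pow_mul, hax, one_pow]
  rw [hone, mul_one, mul_smul, inv_pow, ← pow_mul, mul_comm i, pow_mul]
  have h2 : (a ^ s) ^ i • u = (α ^ i : Sc V Z).1 u := by
    clear hone hir
    induction i with
    | zero => rw [pow_zero, pow_zero, one_smul]; rfl
    | succ i ih =>
      rw [pow_succ', mul_smul, ih (F.inv_mem (pow_mem ha.1 i)), linear_of_mem (hf.cent (pow_mem ha.1 s)) (α ^ i : Sc V Z).2,
        hα, pow_succ]
      rfl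
  have hαi : (α ^ i : Sc V Z) ≠ 0 := pow_ne_zero i hα0
  have h3 : ((a ^ s) ^ i)⁻¹ • u = ((α ^ i)⁻¹ : Sc V Z).1 u := by
    rw [inv_smul_eq_iff, linear_of_mem (hf.cent (pow_mem (pow_mem ha.1 s) i)) ((α ^ i)⁻¹ : Sc V Z).2, h2]
    show u = (((α ^ i)⁻¹ * α ^ i : Sc V Z)).1 u
    rw [inv_mul_cancel₀ hαi]
    rfl
  rw [h3, linear_of_mem (hf.cent (pow_mem hx.1 s)) ((α ^ i)⁻¹ : Sc V Z).2, hβ]
  show ((α ^ i)⁻¹ * β : Sc V Z).1 u = (r ^ s : Sc V Z).1 u
  rw [hir, inv_mul_cancel_left₀ hαi]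

/-- The span over the line stabilizer. -/
def Sp (hf : Frame A V Z F L₀) (u : V) (a b : A) : Subgroup A := closure ((LS hf u : Set A) ∪ {a, b})

theorem LS_le_Sp (hf : Frame A V Z F L₀) (u : V) (a b : A) : LS hf u ≤ Sp hf u a b :=
  fun _ hx => subset_closure (Or.inl hx)

theorem prime_pair (hf : Frame A V Z F L₀) {u : V} (hu : MaxLine hf u) {s : ℕ} (hs : s.Prime) {z : A}
    (hz : z ∈ Z) (hzo : orderOf z = s) :
    ∃ a b, a ∈ F₀ hf u ∧ b ∈ F₀ hf u ∧ a ^ s ∈ LS hf u ∧ b ^ s ∈ LS hf u ∧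
      ∀ x ∈ F₀ hf u, x ^ s ∈ LS hf u → x ∈ Sp hf u a b := by
  classical
  by_cases hall : ∀ x ∈ F₀ hf u, x ^ s ∈ LS hf u → x ∈ LS hf u
  · exact ⟨1, 1, one_mem _, one_mem _, by rw [one_pow]; exact one_mem _, by rw [one_pow]; exact one_mem _,
      fun x hx hxs => LS_le_Sp hf u 1 1 (hall x hx hxs)⟩
  push Not at hall
  obtain ⟨a, ha, has, haL⟩ := hall
  have hcase : ∀ b x : A, x ∈ F₀ hf u → x ^ s ∈ LS hf u → ⁅x, a⁆ = 1 → x ∈ Sp hf u a b := fun b x hx hxs hc => by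
    obtain ⟨i, hi⟩ := mem_of_commute hf hu hs hz hzo ha has haL hx hxs (by rw [hc, one_pow])
    rw [← inv_mul_cancel_right x (a ^ i)]
    exact mul_mem (LS_le_Sp hf u a b hi)
      (pow_mem (show a ∈ Sp hf u a b from Subgroup.subset_closure (Or.inr (Or.inl rfl))) i)
  by_cases hb : ∀ x ∈ F₀ hf u, x ^ s ∈ LS hf u → ⁅x, a⁆ = 1
  · exact ⟨a, 1, ha, one_mem _, has, by rw [one_pow]; exact one_mem _, fun x hx hxs => hcase 1 x hx hxs (hb x hx hxs)⟩
  push Not at hb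
  obtain ⟨b, hbF, hbs, hba⟩ := hb
  refine ⟨a, b, ha, hbF, has, hbs, fun x hx hxs => ?_⟩
  have hcs : ∀ y ∈ F₀ hf u, y ^ s ∈ LS hf u → ⁅y, a⁆ ^ s = 1 := fun y hy hys => by
    rw [← comm_pow hf hy.1 ha.1, comm_eq_one_iff]
    exact Subgroup.mem_centralizer_iff.mp ha.2 _ hys
  haveI := Fact.mk hs
  have hcyc : ∀ c ∈ Z, c ^ s = 1 → c ∈ zpowers ⁅b, a⁆ := by
    intro c hc hcs'
    letI := hf.base.field.toField
    letI : CommGroup Z := { (inferInstance : Group Z) with mul_comm := fun p q => Subtype.ext (hf.base.comm p p.2 q q.2) }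
    let φ : Z →* Sc V Z :=
      { toFun := fun q => ⟨rho (q : A), rho_mem q.2⟩
        map_one' := Subtype.ext (map_one rho)
        map_mul' := fun p q => Subtype.ext (map_mul rho (p : A) (q : A)) }
    haveI : IsCyclic Z := isCyclic_of_injective_ringHom φ fun p q e =>
      Subtype.ext (hf.base.rho_inj (congrArg Subtype.val e))
    haveI : Fintype Z := Fintype.ofFinite _
    let g : Z := ⟨⁅b, a⁆, hf.comm b hbF.1 a ha.1⟩
    have hg : orderOf g = s := orderOf_eq_prime (Subtype.ext (hcs b hbF hbs)) fun h => hba (congrArg Subtype.val h)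
    have hsub : (zpowers g : Set Z).toFinset = Finset.univ.filter fun q : Z => q ^ s = 1 := by
      refine Finset.eq_of_subset_of_card_le (fun q hq => ?_) ?_
      · rw [Set.mem_toFinset, SetLike.mem_coe, mem_zpowers_iff] at hq
        obtain ⟨m, rfl⟩ := hq
        refine Finset.mem_filter.mpr ⟨Finset.mem_univ _, ?_⟩
        rw [← zpow_natCast, ← zpow_mul, mul_comm, zpow_mul, zpow_natCast, ← hg, pow_orderOf_eq_one, one_zpow]
      · refine (IsCyclic.card_pow_eq_one_le hs.pos).trans (le_of_eq ?_)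
        rw [Set.toFinset_card, ← Nat.card_eq_fintype_card]
        exact (hg.symm.trans (Nat.card_zpowers g).symm)
    have hmem : (⟨c, hc⟩ : Z) ∈ (zpowers g : Set Z).toFinset := by
      rw [hsub]
      exact Finset.mem_filter.mpr ⟨Finset.mem_univ _, Subtype.ext hcs'⟩
    rw [Set.mem_toFinset, SetLike.mem_coe, mem_zpowers_iff] at hmem
    obtain ⟨m, hm⟩ := hmem
    exact ⟨m, congrArg Subtype.val hm⟩
  obtain ⟨j, hj⟩ := ((isOfFinOrder_of_finite _).mem_powers_iff_mem_zpowers).mpr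
    (hcyc _ (hf.comm x hx.1 a ha.1) (hcs x hx hxs))
  replace hj : ⁅b, a⁆ ^ j = ⁅x, a⁆ := hj
  have hb' : (b ^ j)⁻¹ ∈ F₀ hf u := inv_mem (pow_mem hbF j)
  have hx' : x * (b ^ j)⁻¹ ∈ Sp hf u a b := by
    refine hcase b _ ((F₀ hf u).mul_mem hx hb') (mul_pow_mem hf hx.1 hb'.1 le_LS hxs ?_) ?_
    · rw [inv_pow, ← pow_mul, mul_comm, pow_mul]
      exact inv_mem (pow_mem hbs j)
    · have e : ⁅(b ^ j)⁻¹, a⁆ = (b ^ j)⁻¹ * ⁅b ^ j, a⁆⁻¹ * (b ^ j)⁻¹⁻¹ := by simp [commutatorElement_def, mul_assoc]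
      rw [comm_mul_left, e, central_conj (hf.cent hb'.1) (Z.inv_mem (hf.comm _ (pow_mem hbF.1 j) a ha.1)),
        central_conj (hf.cent hx.1) (Z.inv_mem (hf.comm _ (pow_mem hbF.1 j) a ha.1)), comm_pow hf hbF.1 ha.1, hj,
        inv_mul_cancel]
  rw [← inv_mul_cancel_right x (b ^ j)]
  exact mul_mem hx' (pow_mem (show b ∈ Sp hf u a b from Subgroup.subset_closure (Or.inr (Or.inr rfl))) j)

/-- Two generators. -/
theorem two_gen (hf : Frame A V Z F L₀) {u : V} (hu : MaxLine hf u) :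
    ∃ a b, a ∈ F₀ hf u ∧ b ∈ F₀ hf u ∧ F₀ hf u ≤ Sp hf u a b := by
  obtain ⟨N, hsq, hN, hprimes⟩ := root_exponent hf
  suffices h : ∀ n, n ∣ N → ∃ a b, a ∈ F₀ hf u ∧ b ∈ F₀ hf u ∧ a ^ n ∈ LS hf u ∧ b ^ n ∈ LS hf u ∧
      ∀ x ∈ F₀ hf u, x ^ n ∈ LS hf u → x ∈ Sp hf u a b by
    obtain ⟨a, b, ha, hb, -, -, h⟩ := h N dvd_rfl
    exact ⟨a, b, ha, hb, fun x hx => h x hx (le_LS (hN x hx.1))⟩
  intro n
  induction n using Nat.strong_induction_on with
  | _ n ih =>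
  intro hn
  by_cases h1 : n = 1
  · subst h1
    exact ⟨1, 1, one_mem _, one_mem _, by rw [one_pow]; exact one_mem _, by rw [one_pow]; exact one_mem _,
      fun x _ hx => LS_le_Sp hf u 1 1 (by rwa [pow_one] at hx)⟩
  obtain ⟨s, hs, m, rfl⟩ := Nat.exists_prime_and_dvd h1
  have hsq' : Squarefree (s * m) := hsq.squarefree_of_dvd hn
  have hcop : Nat.Coprime s m := Nat.coprime_of_squarefree_mul hsq'
  have hm0 : 0 < m := Nat.pos_of_ne_zero fun h0 => by rw [h0, mul_zero] at hsq'; exact not_squarefree_zero hsq'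
  obtain ⟨-, z, hz, hzo⟩ := hprimes s hs (dvd_trans (dvd_mul_right s m) hn)
  obtain ⟨a₁, b₁, ha₁, hb₁, ha₁s, hb₁s, hgen₁⟩ := prime_pair hf hu hs hz hzo
  obtain ⟨a₂, b₂, ha₂, hb₂, ha₂m, hb₂m, hgen₂⟩ := ih m (lt_mul_of_one_lt_left hm0 hs.one_lt)
    (dvd_trans (dvd_mul_left m s) hn)
  have hsub : ∀ p q : A, p ∈ F₀ hf u → q ∈ F₀ hf u → p ^ s ∈ LS hf u → q ^ m ∈ LS hf u →
      (p * q) ^ (s * m) ∈ LS hf u := fun p q hp hq hps hqm => mul_pow_mem hf hp.1 hq.1 le_LS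
    (by rw [pow_mul]; exact pow_mem hps m) (by rw [mul_comm, pow_mul]; exact pow_mem hqm s)
  refine ⟨a₁ * a₂, b₁ * b₂, mul_mem ha₁ ha₂, mul_mem hb₁ hb₂, hsub _ _ ha₁ ha₂ ha₁s ha₂m,
    hsub _ _ hb₁ hb₂ hb₁s hb₂m, fun x hx hxn => ?_⟩
  set S := Sp hf u (a₁ * a₂) (b₁ * b₂)
  have hZS : Z ≤ S := le_LS.trans (LS_le_Sp hf u _ _)
  have hsplit : ∀ p q : A, p ∈ F₀ hf u → q ∈ F₀ hf u → p ^ s ∈ LS hf u → q ^ m ∈ LS hf u → p * q ∈ S →
      p ∈ S ∧ q ∈ S := by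
    intro p q hp hq hps hqm hpq
    have h3 := pow_mem hpq m
    rw [mul_pow_formula hf hp.1 hq.1] at h3
    have h4 : p ^ m ∈ S := by
      rw [S.mul_mem_cancel_right (hZS (pow_mem (hf.comm q hq.1 p hp.1) _)),
        S.mul_mem_cancel_right (LS_le_Sp hf u _ _ hqm)] at h3
      exact h3
    have hpS : p ∈ S := mem_of_coprime_pow hcop (LS_le_Sp hf u _ _ hps) h4
    exact ⟨hpS, by rwa [S.mul_mem_cancel_left hpS] at hpq⟩
  obtain ⟨hA1, hA2⟩ := hsplit a₁ a₂ ha₁ ha₂ ha₁s ha₂m (Subgroup.subset_closure (Or.inr (Or.inl rfl)))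
  obtain ⟨hB1, hB2⟩ := hsplit b₁ b₂ hb₁ hb₂ hb₁s hb₂m (Subgroup.subset_closure (Or.inr (Or.inr rfl)))
  have hle : ∀ p q, p ∈ S → q ∈ S → Sp hf u p q ≤ S := fun p q hp hq => (closure_le S).mpr (Set.union_subset
    (LS_le_Sp hf u _ _) (Set.insert_subset hp (Set.singleton_subset_iff.mpr hq)))
  refine mem_of_coprime_pow hcop (hle _ _ hA2 hB2 (hgen₂ _ (pow_mem hx s) (by rw [← pow_mul]; exact hxn)))
    (hle _ _ hA1 hB1 (hgen₁ _ (pow_mem hx m) (by rw [← pow_mul, mul_comm]; exact hxn)))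

/-- When no line has a large stabilizer the section is a four-group. -/
theorem small_case (hf : Frame A V Z F L₀) (hFZ : ¬ F ≤ Z) {u : V} (hu : MaxLine hf u) (hall : F₀ hf u = F) :
    LS hf u ≤ Z ∧ ∃ a b, a ∈ F ∧ b ∈ F ∧ a ^ 2 ∈ Z ∧ b ^ 2 ∈ Z ∧ ⁅a, b⁆ ≠ 1 ∧ ⁅a, b⁆ ^ 2 = 1 ∧
      F ≤ closure ((Z : Set A) ∪ {a, b}) := by
  have hLZ : LS hf u ≤ Z := fun l hl => hf.centre_F hl.1 fun y hy => by
    rw [← hall] at hy
    exact (comm_eq_one_iff l y).mpr (Subgroup.mem_centralizer_iff.mp hy.2 l hl)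
  obtain ⟨N, hsq, hN, hprimes⟩ := root_exponent hf
  have hodd : ∀ s, s.Prime → s ∣ N → s = 2 := fun s hs hd => by
    by_contra hs2
    obtain ⟨⟨a, ha, has, haZ⟩, z, hz, hzo⟩ := hprimes s hs hd
    obtain ⟨y, hy, hay⟩ : ∃ y ∈ F, ⁅y, a⁆ ≠ 1 := by
      by_contra hcon
      push Not at hcon
      exact haZ (hf.centre_F ha fun y hy => by rw [← commutatorElement_inv, hcon y hy, inv_one])
    obtain ⟨m, hm⟩ := hd
    have hys : ⁅y, a⁆ ^ s = 1 := by
      rw [← comm_pow_right hf hy ha]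
      exact hf.central_left (hf.cent hy) has
    have hym : ⁅y ^ m, a⁆ ≠ 1 := fun h => by
      rw [comm_pow hf hy ha] at h
      have hcop : Nat.Coprime s m := Nat.coprime_of_squarefree_mul (hm ▸ hsq)
      have h' := (pow_gcd_eq_one (m := s) (n := m)).mpr ⟨hys, h⟩
      rw [hcop.gcd_eq_one, pow_one] at h'
      exact hay h'
    have hb : y ^ m ∈ F₀ hf u := hall.ge (pow_mem hy m)
    obtain ⟨i, hi⟩ := mem_of_commute hf hu hs hz hzo (hall.ge ha) (le_LS has) (fun h => haZ (hLZ h)) hb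
      (le_LS (by rw [← pow_mul, mul_comm, ← hm]; exact hN y hy)) (by
        obtain ⟨c, hc⟩ : s ∣ s.choose 2 := hs.dvd_choose_self (by norm_num) (lt_of_le_of_ne hs.two_le (Ne.symm hs2))
        rw [hc, comm_pow hf hy ha, ← pow_mul, show m * (s * c) = s * (m * c) by ring, pow_mul, hys, one_pow])
    refine hym ?_
    rw [← inv_mul_cancel_right (y ^ m) (a ^ i), comm_mul_left,
      show ⁅a ^ i, a⁆ = 1 by rw [comm_pow hf ha ha, commutatorElement_self, one_pow], mul_one, mul_inv_cancel, one_mul,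
      commutatorElement_eq_one_iff_mul_comm]
    exact (Subgroup.mem_centralizer_iff.mp (hf.cent ha) _ (hLZ hi))
  have hN2 : ∀ x ∈ F, x ^ 2 ∈ Z := fun x hx => by
    have hd : N ∣ 2 := by
      rw [← Nat.prod_primeFactors_of_squarefree hsq]
      refine (Finset.prod_dvd_prod_of_subset _ {2} _ fun p hp => ?_).trans (by simp)
      rw [Finset.mem_singleton]
      exact hodd p (Nat.prime_of_mem_primeFactors hp) (Nat.dvd_of_mem_primeFactors hp)
    obtain ⟨c, hc⟩ := hd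
    rw [hc, pow_mul]
    exact pow_mem (hN x hx) c
  obtain ⟨N2, hN2'⟩ : 2 ∣ N := by
    by_contra h2
    refine hFZ fun x hx => ?_
    by_cases h1 : N = 1
    · have := hN x hx
      rwa [h1, pow_one] at this
    · obtain ⟨p, hp, hpd⟩ := Nat.exists_prime_and_dvd h1
      exact absurd (hodd p hp hpd ▸ hpd) h2
  obtain ⟨-, z, hz, hzo⟩ := hprimes 2 Nat.prime_two ⟨N2, hN2'⟩
  obtain ⟨a, b, ha, hb, ha2, hb2, hgen⟩ := prime_pair hf hu Nat.prime_two hz hzo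
  have hF : F ≤ closure ((Z : Set A) ∪ {a, b}) := fun x hx => (closure_mono (Set.union_subset_union_left _ hLZ))
    (hgen x (hall.symm ▸ hx) (le_LS (hN2 x hx)))
  have hab : ⁅a, b⁆ ≠ 1 := fun h => hFZ fun x hx => hf.centre_F hx fun y hy => by
    haveI := Subgroup.isMulCommutative_closure (k := (Z : Set A) ∪ {a, b}) (by
      intro p hp q hq
      rcases hp with hp | hp | hp <;> rcases hq with hq | hq | hq
      · exact hf.base.comm p hp q hq
      · rw [hq]; exact Subgroup.mem_centralizer_iff.mp (hf.cent ha.1) p hp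
      · rw [Set.mem_singleton_iff.mp hq]; exact Subgroup.mem_centralizer_iff.mp (hf.cent hb.1) p hp
      · rw [hp]; exact (Subgroup.mem_centralizer_iff.mp (hf.cent ha.1) q hq).symm
      · rw [hp, hq]
      · rw [hp, Set.mem_singleton_iff.mp hq]; exact (comm_eq_one_iff a b).mp h
      · rw [Set.mem_singleton_iff.mp hp]; exact (Subgroup.mem_centralizer_iff.mp (hf.cent hb.1) q hq).symm
      · rw [Set.mem_singleton_iff.mp hp, hq]; exact ((comm_eq_one_iff a b).mp h).symm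
      · rw [Set.mem_singleton_iff.mp hp, Set.mem_singleton_iff.mp hq])
    exact (comm_eq_one_iff x y).mpr (congrArg Subtype.val
      (mul_comm' (⟨x, hF hx⟩ : closure ((Z : Set A) ∪ {a, b})) ⟨y, hF hy⟩))
  refine ⟨hLZ, a, b, ha.1, hb.1, hN2 a ha.1, hN2 b hb.1, hab, ?_, hF⟩
  rw [← comm_pow hf ha.1 hb.1, commutatorElement_eq_one_iff_mul_comm]
  exact Subgroup.mem_centralizer_iff.mp (hf.cent hb.1) _ (hN2 a ha.1)

end CfsgLib.BaseThree
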