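import Cfsg.Agent.Lib.BaseThree.Small

/-!
Three vectors when a maximal abelian normal subgroup generates a field.
-/

set_option autoImplicit false

namespace CfsgLib.BaseThree

open Subgroup CfsgLib.OddBase
open scoped commutatorElement

universe u

variable {A V : Type u} [Group A] [Finite A] [AddCommGroup V] [Finite V] [DistribMulAction A V]
  {Z F L₀ : Subgroup A} {hf : Frame A V Z F L₀} {u : V}

theorem conj_mem_LS {a : A} (ha : a • u = u) {x : A} (hx : x ∈ LS hf u) : a * x * a⁻¹ ∈ LS hf u := by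
  obtain ⟨hxF, r, hr, hr0, e⟩ := hx
  refine ⟨hf.normal.conj_mem x hxF a, rho a * r * rho a⁻¹,
    (invRing_genRing (hn := hf.base.normal) hf.base.comm).inv a r hr, fun h0 => hr0 (conj_eq_zero h0), ?_⟩
  show (a * x * a⁻¹) • u = a • r (a⁻¹ • u)
  rw [mul_smul, mul_smul, show a⁻¹ • u = u by rw [inv_smul_eq_iff, ha], e]

theorem conj_mem_F₀ {a : A} (ha : a • u = u) {x : A} (hx : x ∈ F₀ hf u) : a * x * a⁻¹ ∈ F₀ hf u :=
  ⟨hf.normal.conj_mem x hx.1 a, Subgroup.mem_centralizer_iff.mpr fun l hl => by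
    have h1 := Subgroup.mem_centralizer_iff.mp hx.2 _ (conj_mem_LS (a := a⁻¹) (by rw [inv_smul_eq_iff, ha]) hl)
    rw [inv_inv] at h1
    calc l * (a * x * a⁻¹) = a * (a⁻¹ * l * a * x) * a⁻¹ := by group
      _ = a * (x * (a⁻¹ * l * a)) * a⁻¹ := by rw [h1]
      _ = a * x * a⁻¹ * l := by group⟩

theorem smul_Eig {a : A} (ha : a • u = u) {w : V} (hw : w ∈ Eig hf u) : a • w ∈ Eig hf u := fun l hl r hr e => by
  have hl' : a⁻¹ * l * a⁻¹⁻¹ ∈ LS hf u := conj_mem_LS (by rw [inv_smul_eq_iff, ha]) hl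
  have h1 := hw _ hl' (rho a⁻¹ * r * rho a⁻¹⁻¹) ((invRing_genRing (hn := hf.base.normal) hf.base.comm).inv a⁻¹ r hr)
    (by
      show (a⁻¹ * l * a⁻¹⁻¹) • u = a⁻¹ • r (a⁻¹⁻¹ • u)
      rw [inv_inv, mul_smul, mul_smul, ha, e])
  change (a⁻¹ * l * a⁻¹⁻¹) • w = a⁻¹ • r (a⁻¹⁻¹ • w) at h1
  rw [inv_inv, mul_smul, mul_smul] at h1
  exact smul_left_cancel _ h1

theorem F₀_normal : ((F₀ hf u).subgroupOf F).Normal := ⟨fun x hx y => by
  show (y : A) * x * (y : A)⁻¹ ∈ F₀ hf u
  have e : (y : A) * x * (y : A)⁻¹ = ⁅(y : A), (x : A)⁆ * x := by simp [commutatorElement_def, mul_assoc]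
  rw [e]
  refine (F₀ hf u).mul_mem ⟨hf.le (hf.comm _ y.2 _ x.2), Subgroup.mem_centralizer_iff.mpr fun l hl => ?_⟩ hx
  exact (Subgroup.mem_centralizer_iff.mp (hf.cent hl.1) _ (hf.comm _ y.2 _ x.2)).symm⟩

/-- Translates of the eigenspace along different cosets are independent. -/
theorem indep (rp : F ⧸ (F₀ hf u).subgroupOf F → F) (hrp : ∀ q, QuotientGroup.mk (rp q) = q) :
    ∀ (s : Finset (F ⧸ (F₀ hf u).subgroupOf F)) (w : F ⧸ (F₀ hf u).subgroupOf F → V),
    (∀ q ∈ s, w q ∈ Eig hf u) → ∑ q ∈ s, ((rp q : F) : A) • w q = 0 → ∀ q ∈ s, w q = 0 := by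
  classical
  intro s
  induction s using Finset.induction_on with
  | empty => simp
  | @insert p s hp ih =>
    intro w hw hsum
    have hs : ∀ q ∈ s, w q = 0 := fun q hq => by
      obtain ⟨l, hl, hne⟩ : ∃ l ∈ LS hf u, ⁅l, ((rp q : F) : A)⁆ ≠ ⁅l, ((rp p : F) : A)⁆ := by
        by_contra hcon
        push Not at hcon
        refine hp ?_
        have hpq : p = q := by
          rw [← hrp p, ← hrp q]
          refine (QuotientGroup.eq (s := (F₀ hf u).subgroupOf F)).mpr
            ⟨F.mul_mem (F.inv_mem (rp p).2) (rp q).2, Subgroup.mem_centralizer_iff.mpr fun l hl => ?_⟩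
          have h1 := hcon l hl
          have e2 : ⁅l, ((rp q : F) : A)⁆ = ⁅l, ((rp p : F) : A)⁆ *
              (((rp p : F) : A) * ⁅l, ((rp p : F) : A)⁻¹ * ((rp q : F) : A)⁆ * ((rp p : F) : A)⁻¹) := by
            rw [← comm_mul_right, mul_inv_cancel_left]
          rw [h1, left_eq_mul, conj_eq_one_iff] at e2
          push_cast
          exact (comm_eq_one_iff _ _).mp e2
        exact hpq ▸ hq
      obtain ⟨r, hr, hr0, e⟩ := hl.2
      let χ : F ⧸ (F₀ hf u).subgroupOf F → AddMonoid.End V := fun q => rho ⁅l, ((rp q : F) : A)⁆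
      have hχ : ∀ q, χ q ∈ Sc V Z := fun q => rho_mem (hf.comm l hl.1 _ (rp q).2)
      have h3 : ∀ q ∈ insert p s, l • ((rp q : F) : A) • w q = r (((rp q : F) : A) • χ q (w q)) := fun q hq => by
        rw [← linear_of_mem (hf.cent (rp q).2) hr, show r (χ q (w q)) = χ q (r (w q)) from
          scalar_comm hf.base hr (hχ q) _, ← hw q hq l hl r hr e, linear_of_mem (hf.cent (rp q).2) (hχ q)]
        show _ = ⁅l, ((rp q : F) : A)⁆ • ((rp q : F) : A) • l • w q
        rw [← mul_smul, ← mul_smul, ← mul_smul]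
        congr 1
        simp [commutatorElement_def, mul_assoc]
      have h4 : ∑ q ∈ insert p s, ((rp q : F) : A) • χ q (w q) = 0 := by
        have h5 := congrArg (fun v => l • v) hsum
        simp only [Finset.smul_sum, smul_zero] at h5
        rw [Finset.sum_congr rfl h3, ← map_sum] at h5
        exact hf.base.eq_zero hr hr0 h5
      have h6 : ∑ q ∈ insert p s, ((rp q : F) : A) • (χ q (w q) - χ p (w q)) = 0 := by
        simp only [smul_sub, Finset.sum_sub_distrib, h4, zero_sub, neg_eq_zero]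
        rw [Finset.sum_congr rfl fun q _ => linear_of_mem (hf.cent (rp q).2) (hχ p) (w q), ← map_sum, hsum, map_zero]
      rw [Finset.sum_insert hp, sub_self, smul_zero, zero_add] at h6
      have h7 := ih (fun q => χ q (w q) - χ p (w q)) (fun q hq => sub_mem
        (scalar_mem_Eig (hw q (Finset.mem_insert_of_mem hq)) (hχ q))
        (scalar_mem_Eig (hw q (Finset.mem_insert_of_mem hq)) (hχ p))) h6 q hq
      exact hf.base.eq_zero (sub_mem (hχ q) (hχ p)) (sub_ne_zero.mpr fun e => hne (hf.base.rho_inj e)) h7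
    intro q hq
    rcases Finset.mem_insert.mp hq with rfl | hq
    · rw [Finset.sum_insert hp, Finset.sum_eq_zero (fun r hr => by rw [hs r hr, smul_zero]), add_zero,
        smul_eq_zero_iff_eq] at hsum
      exact hsum
    · exact hs q hq

/-- An irredundant generating family. -/
theorem exists_irredundant (Y : Type u) [Group Y] [Finite Y] : ∃ (k : ℕ) (g : Fin k → Y), Function.Injective g ∧
    closure (Set.range g) = ⊤ ∧ ∀ i, g i ∉ closure (g '' {j | j ≠ i}) := by
  classical
  haveI : Fintype Y := Fintype.ofFinite _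
  have hex : ∃ n, ∃ S : Finset Y, S.card = n ∧ closure (S : Set Y) = ⊤ :=
    ⟨_, Finset.univ, rfl, by rw [Finset.coe_univ, Subgroup.closure_univ]⟩
  obtain ⟨S, hS, hgen⟩ := Nat.find_spec hex
  let g : Fin S.card → Y := fun i => ((S.equivFin.symm i : S) : Y)
  have hg : Function.Injective g := Subtype.val_injective.comp S.equivFin.symm.injective
  refine ⟨S.card, g, hg, ?_, fun i hi => ?_⟩
  · rw [show Set.range g = (S : Set Y) from Set.ext fun y =>
      ⟨fun ⟨i, h⟩ => h ▸ (S.equivFin.symm i).2, fun hy => ⟨S.equivFin ⟨y, hy⟩, by simp [g]⟩⟩, hgen]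
  · have hmem : g i ∈ S := (S.equivFin.symm i).2
    refine Nat.find_min hex (m := (S.erase (g i)).card) (by
      rw [Finset.card_erase_of_mem hmem, ← hS]
      exact Nat.sub_lt (Finset.card_pos.mpr ⟨_, hmem⟩) one_pos) ⟨S.erase (g i), rfl, ?_⟩
    rw [eq_top_iff, ← hgen]
    refine (closure_le _).mpr fun y hy => ?_
    by_cases h : y = g i
    · rw [h]
      refine closure_mono ?_ hi
      rintro _ ⟨j, hj, rfl⟩
      exact Finset.mem_erase.mpr ⟨fun e => hj (hg e), (S.equivFin.symm j).2⟩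
    · exact subset_closure (Finset.mem_erase.mpr ⟨h, hy⟩)

/-- The five kinds of components. -/
def val (x₁ x₂ z₀ : A) (u : V) : Fin 5 → V × V :=
  ![(x₁ • u, x₂ • u), (u, z₀ • u), (u, 0), (0, u), (u, u)]

theorem main_triple (hu : MaxLine hf u) (hproper : F₀ hf u ≠ F) (hz : ∃ z ∈ Z, z ≠ (1 : A)) :
    ∃ t : Fin 3 → V, ∀ a : A, (∀ k, a • t k = t k) → a = 1 := by
  classical
  obtain ⟨x₁, x₂, hx₁, hx₂, hgenF₀⟩ := two_gen hf hu
  obtain ⟨z₀, hz₀, hgz⟩ := exists_gen hf.base
  have hz₀1 : z₀ ≠ 1 := fun e => by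
    obtain ⟨z, hz, hz1⟩ := hz
    have h1 := hgz hz
    rw [e, zpowers_one_eq_bot, Subgroup.mem_bot] at h1
    exact hz1 h1
  haveI := F₀_normal (hf := hf) (u := u)
  let Y := F ⧸ (F₀ hf u).subgroupOf F
  haveI : Fintype Y := Fintype.ofFinite _
  obtain ⟨k, g, hginj, hgtop, hirr⟩ := exists_irredundant Y
  have hk : 0 < k := by
    rcases Nat.eq_zero_or_pos k with rfl | hk
    · exfalso
      refine hproper (le_antisymm inf_le_left fun y hy => ?_)
      have h1 : (QuotientGroup.mk (⟨y, hy⟩ : F) : Y) ∈ (⊤ : Subgroup Y) := Subgroup.mem_top _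
      rw [← hgtop, Set.range_eq_empty g, Subgroup.closure_empty, Subgroup.mem_bot] at h1
      exact (QuotientGroup.eq_one_iff (⟨y, hy⟩ : F)).mp h1
    · exact hk
  let g₀ : Y := g ⟨0, hk⟩
  have hg1 : ∀ i, g i ≠ 1 := fun i h => hirr i (by rw [h]; exact one_mem _)
  have hpair : ∀ i j l m : Fin k, i ≠ j → g i * g j = g l * g m → i = l ∨ i = m := by
    intro i j l m hij e
    by_contra hcon
    push Not at hcon
    refine hirr i ?_
    rw [eq_mul_inv_of_mul_eq e]
    exact mul_mem (mul_mem (subset_closure ⟨l, Ne.symm hcon.1, rfl⟩) (subset_closure ⟨m, Ne.symm hcon.2, rfl⟩))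
      (inv_mem (subset_closure ⟨j, Ne.symm hij, rfl⟩))
  have hpair' : ∀ i j l m : Fin k, i ≠ j → g i * g j = g l * g m → j = l ∨ j = m := by
    intro i j l m hij e
    by_contra hcon
    push Not at hcon
    refine hirr j ?_
    rw [eq_inv_mul_of_mul_eq e]
    exact mul_mem (inv_mem (subset_closure ⟨i, hij, rfl⟩))
      (mul_mem (subset_closure ⟨l, Ne.symm hcon.1, rfl⟩) (subset_closure ⟨m, Ne.symm hcon.2, rfl⟩))
  let B : Set Y := {q | ∃ i j : Fin k, (j : ℕ) = i + 1 ∧ q = g i * g j}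
  let col : Y → Fin 5 := fun q =>
    if q = 1 then 0 else if q = g₀ then 1 else if q ∈ Set.range g then 2 else if q ∈ B then 3 else 4
  have hBr : ∀ i j : Fin k, (j : ℕ) = i + 1 → g i * g j ≠ 1 ∧ g i * g j ∉ Set.range g := by
    intro i j hij
    have hne : i ≠ j := fun e => by rw [e] at hij; omega
    refine ⟨fun e => ?_, ?_⟩
    · refine hirr i ?_
      rw [eq_inv_of_mul_eq_one_left e]
      exact inv_mem (subset_closure ⟨j, Ne.symm hne, rfl⟩)
    · rintro ⟨l, hl⟩
      by_cases hli : l = i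
      · subst hli
        exact hg1 j (mul_eq_left.mp hl.symm)
      · by_cases hlj : l = j
        · subst hlj
          exact hg1 i (mul_eq_right.mp hl.symm)
        · refine hirr l ?_
          rw [hl]
          exact mul_mem (subset_closure ⟨i, Ne.symm hli, rfl⟩) (subset_closure ⟨j, Ne.symm hlj, rfl⟩)
  have hu0 := hu.1
  have hvalE : ∀ c, (val x₁ x₂ z₀ u c).1 ∈ Eig hf u ∧ (val x₁ x₂ z₀ u c).2 ∈ Eig hf u := by
    have hz : z₀ • u ∈ Eig hf u := scalar_mem_Eig self_mem_Eig (rho_mem hz₀)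
    intro c
    match c with
    | 0 => exact ⟨smul_mem_Eig hx₁ self_mem_Eig, smul_mem_Eig hx₂ self_mem_Eig⟩
    | 1 => exact ⟨self_mem_Eig, hz⟩
    | 2 => exact ⟨self_mem_Eig, zero_mem _⟩
    | 3 => exact ⟨zero_mem _, self_mem_Eig⟩
    | 4 => exact ⟨self_mem_Eig, self_mem_Eig⟩
  let rp : Y → F := fun q => if q = 1 then 1 else q.out
  have hrp : ∀ q, (QuotientGroup.mk (rp q) : Y) = q := fun q => by
    by_cases hq : q = 1
    · simp [rp, hq]
    · simp [rp, hq]
  refine ⟨![u, ∑ q : Y, ((rp q : F) : A) • (val x₁ x₂ z₀ u (col q)).1,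
    ∑ q : Y, ((rp q : F) : A) • (val x₁ x₂ z₀ u (col q)).2], fun a hfix => ?_⟩
  have ha : a • u = u := by simpa using hfix 0
  haveI := hf.normal
  let π : Y →* Y := QuotientGroup.map _ _ (MulAut.conjNormal (H := F) a).toMonoidHom fun y hy =>
    conj_mem_F₀ ha hy
  have hπinj : Function.Injective π := (injective_iff_map_eq_one π).mpr fun q => by
    obtain ⟨y, rfl⟩ := QuotientGroup.mk_surjective q
    intro hq
    have h1 : a * (y : A) * a⁻¹ ∈ F₀ hf u :=
      (QuotientGroup.eq_one_iff (N := (F₀ hf u).subgroupOf F) (MulAut.conjNormal (H := F) a y)).mp hq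
    have h2 := conj_mem_F₀ (a := a⁻¹) (by rw [inv_smul_eq_iff, ha]) h1
    refine (QuotientGroup.eq_one_iff y).mpr (show (y : A) ∈ F₀ hf u from ?_)
    simpa [mul_assoc] using h2
  let xq : Y → A := fun q => ((rp (π q) : F) : A)⁻¹ * (a * ((rp q : F) : A) * a⁻¹)
  have hxq : ∀ q, xq q ∈ F₀ hf u := fun q => by
    have e1 : (QuotientGroup.mk (rp (π q)) : Y) =
        QuotientGroup.mk ((MulAut.conjNormal (H := F) a) (rp q)) := by
      conv_lhs => rw [hrp, ← hrp q]
      rfl
    exact (QuotientGroup.eq (s := (F₀ hf u).subgroupOf F)).mp e1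
  have hcomp : ∀ (w : Y → V), (∀ q, w q ∈ Eig hf u) →
      a • ∑ q : Y, ((rp q : F) : A) • w q = ∑ q : Y, ((rp q : F) : A) • w q →
      ∀ q, xq q • a • w q = w (π q) := by
    intro w hw he
    let e := Equiv.ofBijective π (Finite.injective_iff_bijective.mp hπinj)
    have h1 : ∑ q : Y, ((rp q : F) : A) • w q = ∑ q : Y, ((rp (π q) : F) : A) • w (π q) :=
      (Equiv.sum_comp e fun q : Y => ((rp q : F) : A) • w q).symm
    have h2 : a • ∑ q : Y, ((rp q : F) : A) • w q = ∑ q : Y, ((rp (π q) : F) : A) • (xq q • a • w q) := by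
      rw [Finset.smul_sum]
      refine Finset.sum_congr rfl fun q _ => ?_
      rw [← mul_smul, ← mul_smul, ← mul_smul]
      congr 1
      simp [xq, mul_assoc]
    have h3 : ∑ q : Y, ((rp (π q) : F) : A) • (xq q • a • w q - w (π q)) = 0 := by
      simp only [smul_sub, Finset.sum_sub_distrib, ← h2, he, ← h1, sub_self]
    have h4 : ∀ q, ((rp (π (e.symm q)) : F) : A) = ((rp q : F) : A) := fun q => by
      rw [show π (e.symm q) = q from e.apply_symm_apply q]
    rw [← Equiv.sum_comp e.symm] at h3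
    simp only [h4] at h3
    intro q
    have h5 := indep (hf := hf) (u := u) rp hrp Finset.univ (fun q => xq (e.symm q) • a • w (e.symm q) - w (π (e.symm q)))
      (fun q _ => sub_mem (smul_mem_Eig (hxq _) (smul_Eig ha (hw _))) (hw _)) h3 (π q) (Finset.mem_univ _)
    rw [show e.symm (π q) = q from e.symm_apply_apply q] at h5
    exact sub_eq_zero.mp h5
  have c1 := hcomp (fun q => (val x₁ x₂ z₀ u (col q)).1) (fun q => (hvalE _).1) (by simpa using hfix 1)
  have c2 := hcomp (fun q => (val x₁ x₂ z₀ u (col q)).2) (fun q => (hvalE _).2) (by simpa using hfix 2)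
  set γ := a * z₀ * a⁻¹ with hγ
  have hγZ : γ ∈ Z := hf.base.normal.conj_mem _ hz₀ a
  have hazu : a • z₀ • u = γ • u := by
    rw [hγ, mul_smul, mul_smul, show a⁻¹ • u = u by rw [inv_smul_eq_iff, ha]]
  have hxz : ∀ q, xq q • γ • u = γ • xq q • u := fun q => linear_of_mem (hf.cent (hxq q).1) (rho_mem hγZ) u
  have hzu : ∀ z ∈ Z, z ≠ 1 → z • u ≠ u := fun z hz h1 e => hu0 (hf.base.fx_center hz h1 e)
  have hγ1 : γ ≠ 1 := fun e => hz₀1 (conj_eq_one_iff.mp e)
  have hne : ∀ (x : A), x • u ≠ 0 := fun x e => hu0 ((smul_eq_zero_iff_eq x).mp e)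
  have hval1 : ∀ q, (∀ c, col q = c → (xq q • a • (val x₁ x₂ z₀ u c).1 = (val x₁ x₂ z₀ u (col (π q))).1) ∧
      xq q • a • (val x₁ x₂ z₀ u c).2 = (val x₁ x₂ z₀ u (col (π q))).2) := fun q c hc => hc ▸ ⟨c1 q, c2 q⟩
  have hcol0 : ∀ q, col q = 0 ↔ q = 1 := fun q => by
    constructor
    · intro h
      by_contra hq
      simp only [col, if_neg hq] at h
      split_ifs at h <;> exact absurd h (by decide)
    · intro h; simp [col, h]
  have hπ1 : ∀ q, q ≠ 1 → col (π q) ≠ 0 := fun q hq h => hq (hπinj (((hcol0 _).mp h).trans (map_one π).symm))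
  -- the colour is preserved and the component fixes the vector
  have key : ∀ q, q ≠ 1 → col (π q) = col q ∧ xq q • u = u ∧ (col q = 1 → γ • u = z₀ • u) := by
    intro q hq
    have hnq : col q ≠ 0 := fun h => hq ((hcol0 q).mp h)
    have hnp := hπ1 q hq
    obtain ⟨d1, d2⟩ := hval1 q _ rfl
    generalize col q = c at hnq d1 d2 ⊢
    generalize col (π q) = d at hnp d1 d2 ⊢
    fin_cases c <;> fin_cases d <;> simp only [val] at d1 d2 hnq hnp ⊢ <;>
      simp [ha, hazu, hxz, smul_eq_zero_iff_eq, hu0, hne, hne z₀] at d1 d2 hnq hnp ⊢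
    all_goals first
      | exact ⟨d1, by rw [d1] at d2; exact d2⟩
      | exact d1
      | exact d2
      | (exfalso; first
          | exact hne _ d1
          | exact hne _ d2
          | exact hne _ d1.symm
          | exact hne _ d2.symm
          | (rw [d1] at d2; exact hzu _ hγZ hγ1 d2)
          | (rw [d1] at d2; exact hzu _ hz₀ hz₀1 d2.symm)
          | exact hu0 d1.symm
          | exact hu0 d2.symm)
  have hcolg₀ : col g₀ = 1 := by simp only [col, if_neg (hg1 _), g₀, if_true]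
  obtain ⟨-, -, hγeq⟩ := key g₀ (hg1 _)
  have haC : a ∈ centralizer (Z : Set A) := by
    refine mem_cent_of_gen hgz (show γ = z₀ from ?_)
    by_contra hne'
    refine hzu _ (Z.mul_mem (Z.inv_mem hz₀) hγZ) (fun e1 => hne' (inv_mul_eq_one.mp e1).symm) ?_
    rw [mul_smul, hγeq hcolg₀, inv_smul_smul]
  have hcol1 : ∀ q, col q = 1 → q = g₀ := fun q h => by
    by_contra hq
    simp only [col, if_neg hq] at h
    split_ifs at h <;> exact absurd h (by decide)
  have hπg : ∀ (n : ℕ) (i : Fin k), (i : ℕ) = n → π (g i) = g i := by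
    intro n
    induction n using Nat.strong_induction_on with
    | _ n ih =>
    intro i hi
    by_cases hn0 : n = 0
    · have hi0 : i = ⟨0, hk⟩ := Fin.ext (hi.trans hn0)
      rw [hi0]
      exact hcol1 _ ((key g₀ (hg1 _)).1.trans hcolg₀)
    have hig : g i ≠ g₀ := fun e => by
      have := congrArg Fin.val (hginj e)
      simp only at this
      omega
    have hci : col (g i) = 2 := by
      simp only [col, if_neg (hg1 i), if_neg hig, if_pos (Set.mem_range_self i)]
    obtain ⟨j, hj⟩ : π (g i) ∈ Set.range g := by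
      have h := (key (g i) (hg1 i)).1.trans hci
      by_contra hr
      simp only [col, if_neg hr] at h
      split_ifs at h <;> exact absurd h (by decide)
    let p : Fin k := ⟨n - 1, by omega⟩
    have hpi : (i : ℕ) = (p : ℕ) + 1 := by show (i : ℕ) = n - 1 + 1; omega
    have hp := ih (n - 1) (by omega) p rfl
    obtain ⟨hb1, hbr⟩ := hBr p i hpi
    have hbB : g p * g i ∈ B := ⟨p, i, hpi, rfl⟩
    have hcb : col (g p * g i) = 3 := by
      simp only [col, if_neg hb1, if_neg (fun e : g p * g i = g₀ => hbr ⟨_, e.symm⟩), if_neg hbr, if_pos hbB]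
    obtain ⟨l, m, hlm, hlmq⟩ : π (g p * g i) ∈ B := by
      have h := (key _ hb1).1.trans hcb
      by_contra hr
      simp only [col, if_neg hr] at h
      split_ifs at h <;> exact absurd h (by decide)
    rw [map_mul, hp, ← hj] at hlmq
    have hpj : p ≠ j := fun e => by
      have := congrArg Fin.val (hginj (hπinj ((hp.trans (congrArg g e)).trans hj) : g p = g i))
      omega
    have h1 := hpair p j l m hpj hlmq
    have h2 := hpair' p j l m hpj hlmq
    rw [← hj]
    refine congrArg g (Fin.ext ?_)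
    rcases h1 with e1 | e1
    · rcases h2 with e2 | e2
      · exact absurd (e1.trans e2.symm) hpj
      · rw [e2, hlm, ← e1]; omega
    · rcases h2 with e2 | e2
      · exfalso
        -- the earlier neighbour is already fixed
        have hl' : (l : ℕ) + 1 = n - 1 := by
          have := congrArg Fin.val e1
          simp only [p] at this
          omega
        have h3 := ih (l : ℕ) (by omega) l rfl
        have h4 : g i = g l := hπinj (by rw [← hj, h3, e2])
        have := congrArg Fin.val (hginj h4)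
        omega
      · exact absurd (e1.trans e2.symm) hpj
  have hπid : ∀ q, π q = q := fun q => by
    have hle : closure (Set.range g) ≤ π.eqLocus (MonoidHom.id Y) :=
      (closure_le _).mpr (by rintro _ ⟨i, rfl⟩; exact hπg _ i rfl)
    exact hle (hgtop.ge (Subgroup.mem_top q))
  -- the deviation lies in the point stabilizer
  let δ : A → A := fun y => y⁻¹ * (a * y * a⁻¹)
  let P : A → Prop := fun d => d ∈ LS hf u ∧ d • u = u
  have hPone : P 1 := ⟨one_mem _, one_smul _ _⟩
  have hPmul : ∀ {d e : A}, P d → P e → P (d * e) := fun hd he => ⟨mul_mem hd.1 he.1, by rw [mul_smul, he.2, hd.2]⟩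
  have hPof : ∀ d ∈ F, d • u = u → P d := fun d hd e => ⟨⟨hd, 1, one_mem _, fun h0 => hu0 (by
    have := DFunLike.congr_fun h0 u
    simpa using this), e⟩, e⟩
  have hδfix : ∀ y ∈ F, a • y • u = y • u → P (δ y) := fun y hy e =>
    hPof _ (F.mul_mem (F.inv_mem hy) (hf.normal.conj_mem y hy a)) (by
      show (y⁻¹ * (a * y * a⁻¹)) • u = u
      rw [mul_smul, mul_smul, mul_smul, show a⁻¹ • u = u by rw [inv_smul_eq_iff, ha], e, inv_smul_smul])
  have hmulδ : ∀ x y : A, y ∈ F₀ hf u → P (δ x) → P (δ y) → P (δ (x * y)) := fun x y hy hx hy' => by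
    have e : δ (x * y) = (y⁻¹ * δ x * y) * δ y := by simp [δ, mul_assoc]
    rw [e]
    refine hPmul ?_ hy'
    have h1 : δ x * y = y * δ x := Subgroup.mem_centralizer_iff.mp hy.2 _ hx.1
    rw [mul_assoc, h1, inv_mul_cancel_left]
    exact hx
  let S₀ : Subgroup A := closure {y | y ∈ F₀ hf u ∧ P (δ y)}
  have hS₀ : ∀ y ∈ S₀, y ∈ F₀ hf u ∧ P (δ y) := fun y hy => by
    induction hy using Subgroup.closure_induction with
    | mem y hy => exact hy
    | one => exact ⟨one_mem _, by simpa [δ] using hPone⟩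
    | mul x y _ _ hx hy => exact ⟨mul_mem hx.1 hy.1, hmulδ x y hy.1 hx.2 hy.2⟩
    | inv x _ hx =>
      refine ⟨inv_mem hx.1, ?_⟩
      have e : δ x⁻¹ = x * (δ x)⁻¹ * x⁻¹ := by simp [δ, mul_assoc]
      rw [e, mul_inv_eq_iff_eq_mul.mpr (Subgroup.mem_centralizer_iff.mp hx.1.2 _ (inv_mem hx.2.1)).symm]
      exact ⟨inv_mem hx.2.1, by rw [inv_smul_eq_iff, hx.2.2]⟩
  have hxq1 : xq 1 = 1 := by simp [xq, rp, map_one π]
  have hfx : a • x₁ • u = x₁ • u ∧ a • x₂ • u = x₂ • u := by
    have e1 := c1 1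
    have e2 := c2 1
    simp only [hxq1, one_smul, map_one π, (hcol0 1).mpr rfl, val] at e1 e2
    exact ⟨by simpa using e1, by simpa using e2⟩
  have hF₀S : ∀ y ∈ F₀ hf u, P (δ y) := fun y hy => (hS₀ y ((closure_le S₀).mpr (by
    intro l hl
    rcases hl with hl | hl | hl
    · refine subset_closure ⟨le_F₀ hu0 hl, hδfix l hl.1 ?_⟩
      obtain ⟨-, r, hr, -, e⟩ := hl
      rw [e, linear_of_mem haC hr, ha]
    · rw [hl]; exact subset_closure ⟨hx₁, hδfix x₁ hx₁.1 hfx.1⟩
    · rw [Set.mem_singleton_iff.mp hl]; exact subset_closure ⟨hx₂, hδfix x₂ hx₂.1 hfx.2⟩) (hgenF₀ hy))).2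
  have hall : ∀ y ∈ F, P (δ y) := fun y hy => by
    let q : Y := QuotientGroup.mk ⟨y, hy⟩
    have hx : ((rp q : F) : A)⁻¹ * y ∈ F₀ hf u :=
      (QuotientGroup.eq (s := (F₀ hf u).subgroupOf F) (a := rp q) (b := ⟨y, hy⟩)).mp (hrp q)
    have hP : P (δ (rp q : A)) := by
      by_cases hq : q = 1
      · simpa [rp, hq, δ] using hPone
      · refine hPof _ (F.mul_mem (F.inv_mem (rp q).2) (hf.normal.conj_mem _ (rp q).2 a)) ?_
        have e := (key q hq).2.1
        simp only [xq, hπid q] at e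
        exact e
    have := hmulδ _ _ hx hP (hF₀S _ hx)
    rwa [mul_inv_cancel_left] at this
  have hcentral : ∀ y ∈ F, a * y * a⁻¹ = y := fun y hy => by
    have hyF : δ y ∈ F := (hall y hy).1.1
    have hcomm : δ y ∈ Z := hf.centre_F hyF fun y' hy' => by
      have e : δ (y * y') = (y'⁻¹ * δ y * y') * δ y' := by simp [δ, mul_assoc]
      have h1 := (hall _ (F.mul_mem hy hy')).2
      rw [e, mul_smul, (hall y' hy').2] at h1
      have hzc : (δ y)⁻¹ * (y'⁻¹ * δ y * y') ∈ Z := by
        have := hf.comm _ (F.inv_mem hyF) _ (F.inv_mem hy')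
        simpa [commutatorElement_def, mul_assoc] using this
      have hz1 : (δ y)⁻¹ * (y'⁻¹ * δ y * y') = 1 := by
        by_contra hne'
        refine hu0 (hf.base.fx_center hzc hne' ?_)
        rw [mul_smul, h1, inv_smul_eq_iff, (hall y hy).2]
      rw [comm_eq_one_iff]
      have h2 := (inv_mul_eq_one.mp hz1)
      conv_rhs => rw [h2]
      simp [mul_assoc]
    have hδ1 : δ y = 1 := by
      by_contra hne'
      exact hu0 (hf.base.fx_center hcomm hne' (hall y hy).2)
    exact (inv_mul_eq_one.mp hδ1).symm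
  have haZ : a ∈ Z := hf.centre a haC fun y hy => (comm_eq_one_iff a y).mpr (mul_inv_eq_iff_eq_mul.mp (hcentral y hy))
  by_contra ha1
  exact hu0 (hf.base.fx_center haZ ha1 ha)

end CfsgLib.BaseThree
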