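import Cfsg.Agent.Lib.BaseThree.Gens
import Cfsg.Agent.Lib.OddBase.Main

/-!
The field case of three vectors when the section is a four-group without eigenvectors.
-/

set_option autoImplicit false

namespace CfsgLib.BaseThree

open Subgroup CfsgLib.OddBase
open scoped commutatorElement

universe u

variable {A V : Type u} [Group A] [Finite A] [AddCommGroup V] [Finite V] [DistribMulAction A V]
  {Z F L₀ : Subgroup A}

theorem small_triple (hf : Frame A V Z F L₀) (hFZ : ¬ F ≤ Z) {u : V} (hu : MaxLine hf u) (hall : F₀ hf u = F) :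
    ∃ t : Fin 3 → V, ∀ g : A, (∀ k, g • t k = t k) → g = 1 := by
  classical
  obtain ⟨hLZ, a, b, ha, hb, ha2, hb2, hab, hab2, hgen⟩ := small_case hf hFZ hu hall
  have hlines : ∀ v : V, v ≠ 0 → LS hf v ≤ Z := fun v hv => by
    refine (Subgroup.eq_of_le_of_card_ge (le_LS (hf := hf) (u := v)) ((hu.2 v hv).trans ?_)).ge
    exact Nat.card_le_card_of_injective _ (Subgroup.inclusion_injective hLZ)
  letI : Field (Sc V Z) := hf.base.field.toField
  haveI : Fintype (Sc V Z) := Fintype.ofFinite _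
  let ζ : (z : A) → z ∈ Z → Sc V Z := fun z hz => ⟨rho z, rho_mem hz⟩
  have hzab : ⁅b, a⁆ ∈ Z := hf.comm b hb a ha
  have hneg : ζ _ hzab = -1 := by
    have h1 : ζ _ hzab * ζ _ hzab = 1 := Subtype.ext (show rho ⁅b, a⁆ * rho ⁅b, a⁆ = 1 by
      rw [← map_mul, ← sq, ← commutatorElement_inv, inv_pow, hab2, inv_one, map_one])
    refine (mul_self_eq_one_iff.mp h1).resolve_left fun h => hab ?_
    rw [← commutatorElement_inv, hf.base.rho_inj ((congrArg Subtype.val h).trans (map_one rho).symm), inv_one]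
  have h2 : (-1 : Sc V Z) ≠ 1 := fun h => by
    refine hab ?_
    have h' : rho (A := A) (V := V) ⁅b, a⁆ = rho (1 : A) := (congrArg Subtype.val (hneg.trans h)).trans (map_one rho).symm
    rw [← commutatorElement_inv, hf.base.rho_inj h', inv_one]
  have hcard : Fintype.card (Sc V Z) % 2 = 1 := by
    by_contra hev
    have hch : ringChar (Sc V Z) = 2 := FiniteField.even_card_iff_char_two.mpr (by omega)
    haveI := ringChar.of_eq hch
    exact h2 (CharTwo.neg_eq (1 : Sc V Z))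
  set ka := ζ _ ha2
  set kb := ζ _ hb2
  have hka : ka ≠ 0 := fun h0 => hu.1 ((smul_eq_zero_iff_eq (a ^ 2)).mp (by
    show (rho (a ^ 2) : AddMonoid.End V) u = 0
    rw [show rho (a ^ 2) = (0 : AddMonoid.End V) from congrArg Subtype.val h0]; rfl))
  obtain ⟨α, β, hαβ⟩ := FiniteField.exists_root_sum_quadratic (R := Sc V Z)
    (f := Polynomial.X ^ 2 - Polynomial.C kb) (g := Polynomial.C (-ka) * Polynomial.X ^ 2)
    (Polynomial.degree_X_pow_sub_C two_pos kb) (Polynomial.degree_C_mul_X_pow 2 (neg_ne_zero.mpr hka)) hcard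
  simp only [Polynomial.eval_sub, Polynomial.eval_pow, Polynomial.eval_X, Polynomial.eval_C,
    Polynomial.eval_mul] at hαβ
  have hαβ' : α * α = kb + ka * (β * β) := by linear_combination hαβ
  -- the operator
  let T : V → V := fun v => b • v - β.1 (a • v)
  have hTT : ∀ v, T (T v) = (kb + ka * (β * β)).1 v := fun v => by
    have e1 : b • a • v = (-1 : Sc V Z).1 (a • b • v) := by
      rw [← hneg]
      show b • a • v = ⁅b, a⁆ • a • b • v
      rw [← mul_smul, ← mul_smul, ← mul_smul]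
      congr 1
      simp [commutatorElement_def, mul_assoc]
    have e2 : a • β.1 (a • v) = β.1 ((a ^ 2) • v) := by rw [linear_of_mem (hf.cent ha) β.2, sq, mul_smul]
    have e3 : (-1 : Sc V Z).1 (a • b • v) = -(a • b • v) := rfl
    show b • (b • v - β.1 (a • v)) - β.1 (a • (b • v - β.1 (a • v))) = _
    rw [smul_sub, smul_sub, map_sub, linear_of_mem (hf.cent hb) β.2, e1, e3, map_neg, e2, ← mul_smul, ← sq]
    show kb.1 v - -β.1 (a • b • v) - (β.1 (a • b • v) - β.1 (β.1 (ka.1 v))) = kb.1 v + ka.1 (β.1 (β.1 v))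
    rw [scalar_comm hf.base ka.2 β.2 (β.1 v), scalar_comm hf.base ka.2 β.2 v]
    abel
  obtain ⟨u₁, γ, hu₁, hT⟩ : ∃ (u₁ : V) (γ : Sc V Z), u₁ ≠ 0 ∧ T u₁ = γ.1 u₁ := by
    by_cases h0 : T u = α.1 u
    · exact ⟨u, α, hu.1, h0⟩
    refine ⟨T u - α.1 u, -α, sub_ne_zero.mpr h0, ?_⟩
    have hlin : ∀ x y : V, T (x - y) = T x - T y := fun x y => by
      show b • (x - y) - β.1 (a • (x - y)) = (b • x - β.1 (a • x)) - (b • y - β.1 (a • y))
      rw [smul_sub, smul_sub, map_sub β.1 (a • x) (a • y)]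
      abel
    have hα : T (α.1 u) = α.1 (T u) := by
      show b • α.1 u - β.1 (a • α.1 u) = α.1 (b • u - β.1 (a • u))
      rw [map_sub α.1 (b • u) (β.1 (a • u)), linear_of_mem (hf.cent hb) α.2, linear_of_mem (hf.cent ha) α.2,
        scalar_comm hf.base β.2 α.2]
    rw [hlin, hα, hTT, ← hαβ']
    show α.1 (α.1 u) - α.1 (T u) = -(α.1 (T u - α.1 u))
    rw [map_sub α.1 (T u) (α.1 u), neg_sub]
  obtain ⟨z₀, hz₀, hgz⟩ := exists_gen hf.base
  refine ⟨![u₁, a • u₁, z₀ • u₁], fun g hg => ?_⟩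
  have g0 : g • u₁ = u₁ := by simpa using hg 0
  have g1 : g • a • u₁ = a • u₁ := by simpa using hg 1
  have g2 : g • z₀ • u₁ = z₀ • u₁ := by simpa using hg 2
  have hgC : g ∈ centralizer (Z : Set A) := by
    refine mem_cent_of_gen hgz ?_
    have e : (g * z₀ * g⁻¹) • u₁ = z₀ • u₁ := by
      rw [mul_smul, mul_smul, show g⁻¹ • u₁ = u₁ by rw [inv_smul_eq_iff, g0], g2]
    by_contra hne
    refine hu₁ (hf.base.fx_center (Z.mul_mem (Z.inv_mem hz₀) (hf.base.normal.conj_mem _ hz₀ g))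
      (fun e1 => hne (inv_mul_eq_one.mp e1).symm) ?_)
    rw [mul_smul, e, inv_smul_smul]
  have g3 : g • b • u₁ = b • u₁ := by
    have e : b • u₁ = γ.1 u₁ + β.1 (a • u₁) := by rw [← hT]; exact (sub_add_cancel (b • u₁) _).symm
    rw [e, smul_add, linear_of_mem hgC γ.2, linear_of_mem hgC β.2, g0, g1]
  have hfix : ∀ x ∈ F, g • x • u₁ = x • u₁ → g * x = x * g := fun x hx e => by
    have hgx : x⁻¹ * (g * x * g⁻¹) ∈ F := F.mul_mem (F.inv_mem hx) (hf.normal.conj_mem x hx g)
    have e2 : (x⁻¹ * (g * x * g⁻¹)) • u₁ = u₁ := by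
      rw [mul_smul, mul_smul, mul_smul, show g⁻¹ • u₁ = u₁ by rw [inv_smul_eq_iff, g0], e, inv_smul_smul]
    have hmem : x⁻¹ * (g * x * g⁻¹) ∈ LS hf u₁ := ⟨hgx, 1, one_mem _, fun h0 => hu₁ (by
      have := DFunLike.congr_fun h0 u₁
      simpa using this), e2⟩
    by_contra hne
    refine hu₁ (hf.base.fx_center (hlines u₁ hu₁ hmem) (fun e1 => hne ?_) e2)
    exact mul_inv_eq_iff_eq_mul.mp (inv_mul_eq_one.mp e1).symm
  have hcl : F ≤ centralizer ({g} : Set A) := hgen.trans ((closure_le _).mpr (by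
    intro x hx
    refine Subgroup.mem_centralizer_singleton_iff.mpr ?_
    rcases hx with hx | hx | hx
    · exact Subgroup.mem_centralizer_iff.mp hgC x hx
    · rw [hx]; exact (hfix a ha g1).symm
    · rw [Set.mem_singleton_iff.mp hx]; exact (hfix b hb g3).symm))
  have hgZ : g ∈ Z := hf.centre g hgC fun y hy =>
    (comm_eq_one_iff g y).mpr (Subgroup.mem_centralizer_singleton_iff.mp (hcl hy)).symm
  by_contra hg1
  exact hu₁ (hf.base.fx_center hgZ hg1 g0)

end CfsgLib.BaseThree
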