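import Cfsg.Agent.Lib.OddBase.Sympl

/-!
The section centralizing a maximal line stabilizer is generated by two elements.
-/

set_option autoImplicit false

namespace CfsgLib.BaseThree

open Subgroup CfsgLib.OddBase
open scoped commutatorElement

universe u

variable {A V : Type u} [Group A] [Finite A] [AddCommGroup V] [Finite V] [DistribMulAction A V]
  {Z F L₀ : Subgroup A}

/-- The scalars. -/
abbrev Sc (V : Type u) [AddCommGroup V] [DistribMulAction A V] (Z : Subgroup A) := genRing (V := V) Z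

theorem scalar_comm (h : Setup A V Z) {r s : AddMonoid.End V} (hr : r ∈ Sc V Z) (hs : s ∈ Sc V Z) (x : V) :
    r (s x) = s (r x) :=
  DFunLike.congr_fun (congrArg Subtype.val (h.field.mul_comm ⟨r, hr⟩ ⟨s, hs⟩)) x

theorem scalar_eq (h : Setup A V Z) {r s : AddMonoid.End V} (hr : r ∈ Sc V Z) (hs : s ∈ Sc V Z) {u : V}
    (hu : u ≠ 0) (e : r u = s u) : r = s := by
  by_contra hne
  exact hu (h.eq_zero (sub_mem hr hs) (sub_ne_zero.mpr hne) (by show r u - s u = 0; rw [e, sub_self]))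

/-- The stabilizer of a line in the section. -/
def LS (hf : Frame A V Z F L₀) (u : V) : Subgroup A where
  carrier := {x | x ∈ F ∧ ∃ r ∈ Sc V Z, r ≠ 0 ∧ x • u = r u}
  one_mem' := ⟨F.one_mem, 1, one_mem _, (fun e => by
    obtain ⟨a, b, hab⟩ := hf.base.field.exists_pair_ne
    apply hab
    have h1 : (1 : Sc V Z) = 0 := Subtype.ext e
    rw [← one_mul a, ← one_mul b, h1, zero_mul, zero_mul]), by rw [one_smul]; rfl⟩
  mul_mem' := fun {x y} ⟨hx, r, hr, hr0, ex⟩ ⟨hy, s, hs, hs0, ey⟩ => ⟨F.mul_mem hx hy, s * r, mul_mem hs hr,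
    (fun e => by
      letI := hf.base.field.toField
      exact (mul_ne_zero (a := (⟨s, hs⟩ : Sc V Z)) (b := ⟨r, hr⟩) (fun e => hs0 (congrArg Subtype.val e))
        (fun e => hr0 (congrArg Subtype.val e))) (Subtype.ext e)), by
    rw [mul_smul, ey, linear_of_mem (hf.cent hx) hs, ex]
    rfl⟩
  inv_mem' := fun {x} ⟨hx, r, hr, hr0, ex⟩ => by
    obtain ⟨s, hs⟩ := hf.base.field.mul_inv_cancel (a := ⟨r, hr⟩) fun e => hr0 (congrArg Subtype.val e)
    have hrs : r * s.1 = 1 := congrArg Subtype.val hs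
    refine ⟨F.inv_mem hx, s.1, s.2, fun e => ?_, ?_⟩
    · rw [e, mul_zero] at hrs
      exact hr0 (by rw [← mul_one r, ← hrs, mul_zero])
    · rw [inv_smul_eq_iff, linear_of_mem (hf.cent hx) s.2, ex, scalar_comm hf.base s.2 hr]
      exact (DFunLike.congr_fun hrs u).symm

variable {hf : Frame A V Z F L₀} {u : V}

theorem le_LS : Z ≤ LS hf u := fun z hz => ⟨hf.le hz, rho z, rho_mem hz, (fun e => by
  have h1 : rho z * rho z⁻¹ = (1 : AddMonoid.End V) := by rw [← map_mul, mul_inv_cancel, map_one]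
  obtain ⟨a, b, hab⟩ := hf.base.field.exists_pair_ne
  apply hab
  rw [e, zero_mul] at h1
  have h2 : (1 : Sc V Z) = 0 := Subtype.ext h1.symm
  rw [← one_mul a, ← one_mul b, h2, zero_mul, zero_mul]), rfl⟩

theorem LS_comm (hu : u ≠ 0) {x y : A} (hx : x ∈ LS hf u) (hy : y ∈ LS hf u) : ⁅x, y⁆ = 1 := by
  obtain ⟨hxF, r, hr, hr0, ex⟩ := hx
  obtain ⟨hyF, s, hs, hs0, ey⟩ := hy
  have h1 : (x * y) • u = (y * x) • u := by
    rw [mul_smul, mul_smul, ey, ex, linear_of_mem (hf.cent hxF) hs, linear_of_mem (hf.cent hyF) hr, ex, ey,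
      scalar_comm hf.base hs hr]
  by_contra hne
  refine hu (hf.base.fx_center (hf.comm x hxF y hyF) hne ?_)
  have h2 : ⁅x, y⁆ • (y * x) • u = (x * y) • u := by
    rw [← mul_smul]; congr 1; simp [commutatorElement_def, mul_assoc]
  have hg : ⁅x, y⁆ ∈ centralizer (Z : Set A) := hf.base.le_centralizer (hf.comm x hxF y hyF)
  rw [h1, mul_smul, ex, linear_of_mem (hf.cent hyF) hr, ey, linear_of_mem hg hr, linear_of_mem hg hs] at h2
  have hmem := hf.comm x hxF y hyF
  have h3 : (r * s) (⁅x, y⁆ • u - u) = 0 := by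
    rw [map_sub]; exact sub_eq_zero.mpr h2
  refine sub_eq_zero.mp (hf.base.eq_zero (mul_mem hr hs) ?_ h3)
  intro e
  letI := hf.base.field.toField
  exact (mul_ne_zero (a := (⟨r, hr⟩ : Sc V Z)) (b := ⟨s, hs⟩) (fun e => hr0 (congrArg Subtype.val e))
    (fun e => hs0 (congrArg Subtype.val e))) (Subtype.ext e)

/-- The eigenspace of a line stabilizer. -/
def Eig (hf : Frame A V Z F L₀) (u : V) : AddSubgroup V where
  carrier := {w | ∀ l ∈ LS hf u, ∀ r ∈ Sc V Z, l • u = r u → l • w = r w}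
  zero_mem' := fun l _ r _ _ => by rw [smul_zero, map_zero]
  add_mem' := fun {a b} ha hb l hl r hr e => by rw [smul_add, map_add, ha l hl r hr e, hb l hl r hr e]
  neg_mem' := fun {a} ha l hl r hr e => by rw [smul_neg, map_neg, ha l hl r hr e]

theorem self_mem_Eig : u ∈ Eig hf u := fun _ _ _ _ e => e

theorem scalar_mem_Eig {w : V} (hw : w ∈ Eig hf u) {s : AddMonoid.End V} (hs : s ∈ Sc V Z) : s w ∈ Eig hf u :=
  fun l hl r hr e => by rw [linear_of_mem (hf.cent hl.1) hs, hw l hl r hr e, scalar_comm hf.base hr hs]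

/-- The centralizer of the line stabilizer in the section. -/
def F₀ (hf : Frame A V Z F L₀) (u : V) : Subgroup A := F ⊓ centralizer (LS hf u : Set A)

theorem smul_mem_Eig {x : A} (hx : x ∈ F₀ hf u) {w : V} (hw : w ∈ Eig hf u) : x • w ∈ Eig hf u :=
  fun l hl r hr e => by
    rw [← mul_smul, Subgroup.mem_centralizer_iff.mp hx.2 l hl, mul_smul, hw l hl r hr e,
      linear_of_mem (hf.cent hx.1) hr]

theorem le_F₀ (hu : u ≠ 0) : LS hf u ≤ F₀ hf u := fun x hx => ⟨hx.1, Subgroup.mem_centralizer_iff.mpr fun y hy =>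
  (comm_eq_one_iff y x).mp (LS_comm hu hy hx)⟩

/-- Maximality of a line stabilizer. -/
def MaxLine (hf : Frame A V Z F L₀) (u : V) : Prop :=
  u ≠ 0 ∧ ∀ v : V, v ≠ 0 → Nat.card (LS hf v) ≤ Nat.card (LS hf u)

theorem exists_maxLine (hf : Frame A V Z F L₀) {v : V} (hv : v ≠ 0) : ∃ u, MaxLine hf u := by
  haveI : Nonempty {x : V // x ≠ 0} := ⟨⟨v, hv⟩⟩
  obtain ⟨u, hu⟩ := Finite.exists_max fun x : {x : V // x ≠ 0} => Nat.card (LS hf (x : V))
  exact ⟨u, u.2, fun w hw => hu ⟨w, hw⟩⟩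

/-- Outside the line stabilizer there are no eigenvectors in the eigenspace. -/
theorem no_eigen (hu : MaxLine hf u) {x : A} (hx : x ∈ F) {w : V} (hw : w ∈ Eig hf u) (hw0 : w ≠ 0)
    {r : AddMonoid.End V} (hr : r ∈ Sc V Z) (e : x • w = r w) : x ∈ LS hf u := by
  have hr0 : r ≠ 0 := fun h0 => hw0 (by
    rw [h0] at e
    exact (smul_eq_zero_iff_eq x).mp e)
  have hle : LS hf u ≤ LS hf w := fun l hl => by
    obtain ⟨hlF, s, hs, hs0, el⟩ := hl
    exact ⟨hlF, s, hs, hs0, hw l ⟨hlF, s, hs, hs0, el⟩ s hs el⟩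
  have heq := Subgroup.eq_of_le_of_card_ge hle (hu.2 w hw0)
  rw [heq]
  exact ⟨hx, r, hr, hr0, e⟩

/-- An element whose prime power is a power of a scalar has an eigenvector. -/
theorem mem_LS_of_pow (hu : MaxLine hf u) {x : A} (hx : x ∈ F₀ hf u) {s : ℕ} (hs : s.Prime) {z : A}
    (hz : z ∈ Z) (hzo : orderOf z = s) {r : AddMonoid.End V} (hr : r ∈ Sc V Z)
    (e : (x ^ s) • u = (r ^ s) u) : x ∈ LS hf u := by
  classical
  letI : Field (Sc V Z) := hf.base.field.toField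
  haveI := Fact.mk hs
  let R : Sc V Z := ⟨r, hr⟩
  have hR : R ≠ 0 := fun h0 => hu.1 ((smul_eq_zero_iff_eq (x ^ s)).mp (e.trans (by
    rw [show r = 0 from congrArg Subtype.val h0, zero_pow hs.ne_zero]; rfl)))
  let ω : Sc V Z := ⟨rho z, rho_mem hz⟩
  have hω : ω ^ s = 1 := Subtype.ext (show rho z ^ s = 1 by rw [← map_pow, ← hzo, pow_orderOf_eq_one, map_one])
  have hω1 : ω ≠ 1 := fun h1 => by
    have : z = 1 := hf.base.rho_inj ((congrArg Subtype.val h1).trans (map_one rho).symm)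
    rw [this, orderOf_one] at hzo
    exact hs.one_lt.ne hzo
  have hs0 : (s : Sc V Z) ≠ 0 := fun h0 => by
    haveI : CharP (Sc V Z) s := (CharP.charP_iff_prime_eq_zero hs).mpr h0
    exact hω1 (sub_eq_zero.mp (pow_eq_zero_iff hs.ne_zero |>.mp (by rw [sub_pow_char, hω, one_pow, sub_self])))
  -- the projections
  let T : ℕ → V := fun j => ((R⁻¹ ^ j : Sc V Z) : AddMonoid.End V) ((x ^ j) • u)
  let w : ℕ → V := fun i => ∑ j ∈ Finset.range s, (((ω ^ i) ^ j : Sc V Z) : AddMonoid.End V) (T j)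
  have hT : ∀ j, x • T j = R.1 (T (j + 1)) := fun j => by
    show x • ((R⁻¹ ^ j : Sc V Z) : AddMonoid.End V) ((x ^ j) • u) = R.1 (((R⁻¹ ^ (j + 1) : Sc V Z) : AddMonoid.End V) _)
    rw [linear_of_mem (hf.cent hx.1) (R⁻¹ ^ j : Sc V Z).2, ← mul_smul, ← pow_succ']
    show _ = (R * R⁻¹ ^ (j + 1) : Sc V Z).1 _
    rw [pow_succ' R⁻¹, ← mul_assoc, mul_inv_cancel₀ hR, one_mul]
  have hTs : T s = T 0 := by
    show ((R⁻¹ ^ s : Sc V Z) : AddMonoid.End V) ((x ^ s) • u) = ((R⁻¹ ^ 0 : Sc V Z) : AddMonoid.End V) ((x ^ 0) • u)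
    rw [e, pow_zero, pow_zero, one_smul]
    show (R⁻¹ ^ s * R ^ s : Sc V Z).1 u = _
    rw [← mul_pow, inv_mul_cancel₀ hR, one_pow]
  have heig : ∀ i, (ω ^ i : Sc V Z).1 (x • w i) = R.1 (w i) := fun i => by
    simp only [w, Finset.smul_sum, map_sum]
    have hterm : ∀ j, (ω ^ i : Sc V Z).1 (x • (((ω ^ i) ^ j : Sc V Z) : AddMonoid.End V) (T j))
        = R.1 ((((ω ^ i) ^ (j + 1) : Sc V Z) : AddMonoid.End V) (T (j + 1))) := fun j => by
      rw [linear_of_mem (hf.cent hx.1) (((ω ^ i) ^ j : Sc V Z)).2, hT,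
        scalar_comm hf.base R.2 (((ω ^ i) ^ (j + 1) : Sc V Z)).2, pow_succ']
      rfl
    rw [Finset.sum_congr rfl fun j _ => hterm j, ← map_sum, ← map_sum]
    congr 1
    have h1 := Finset.sum_range_succ' (fun j => (((ω ^ i) ^ j : Sc V Z) : AddMonoid.End V) (T j)) s
    have h2 := Finset.sum_range_succ (fun j => (((ω ^ i) ^ j : Sc V Z) : AddMonoid.End V) (T j)) s
    have h3 : ((ω ^ i) ^ s : Sc V Z) = 1 := by rw [← pow_mul, mul_comm, pow_mul, hω, one_pow]
    rw [hTs, h3] at h2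
    rw [pow_zero] at h1
    exact add_right_cancel (h1.symm.trans h2)
  have hsum : ∑ i ∈ Finset.range s, w i = ((s : Sc V Z) : AddMonoid.End V) (T 0) := by
    simp only [w]
    rw [Finset.sum_comm, Finset.sum_eq_single 0]
    · simp only [pow_zero]
      rw [Finset.sum_const, Finset.card_range]
      show s • T 0 = _
      simp
    · intro j hj hj0
      have hgeo : ∑ i ∈ Finset.range s, (ω ^ i) ^ j = 0 := by
        have hne : ω ^ j ≠ 1 := fun h1 => hj0 (Nat.eq_zero_of_dvd_of_lt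
          (orderOf_eq_prime hω hω1 ▸ orderOf_dvd_of_pow_eq_one h1) (Finset.mem_range.mp hj))
        simp_rw [← pow_mul, mul_comm _ j, pow_mul]
        rw [geom_sum_eq hne, ← pow_mul, mul_comm, pow_mul, hω, one_pow, sub_self, zero_div]
      have h4 := congrArg (fun c : Sc V Z => c.1 (T j)) hgeo
      simp only [AddSubmonoidClass.coe_finsetSum, ZeroMemClass.coe_zero] at h4
      exact (map_sum (AddMonoidHom.eval (T j) : (V →+ V) →+ V)
        (fun i => (((ω ^ i) ^ j : Sc V Z) : AddMonoid.End V)) (Finset.range s)).symm.trans h4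
    · intro h0; exact absurd (Finset.mem_range.mpr hs.pos) h0
  obtain ⟨i, -, hi⟩ : ∃ i ∈ Finset.range s, w i ≠ 0 := by
    by_contra hcon
    push Not at hcon
    rw [Finset.sum_eq_zero hcon] at hsum
    refine hu.1 ?_
    have := hf.base.eq_zero (s : Sc V Z).2 (fun e => hs0 (Subtype.ext e)) hsum.symm
    simpa [T] using this
  have hwi : w i ∈ Eig hf u := by
    refine sum_mem fun j _ => scalar_mem_Eig (scalar_mem_Eig (smul_mem_Eig ?_ self_mem_Eig) (R⁻¹ ^ j : Sc V Z).2) ((ω ^ i) ^ j : Sc V Z).2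
    exact pow_mem hx j
  refine no_eigen hu hx.1 hwi hi ((ω ^ i)⁻¹ * R : Sc V Z).2 ?_
  show x • w i = ((ω ^ i)⁻¹ : Sc V Z).1 (R.1 (w i))
  rw [← heig]
  show _ = (((ω ^ i)⁻¹ * ω ^ i : Sc V Z)).1 (x • w i)
  rw [inv_mul_cancel₀ (pow_ne_zero i (fun h0 => by rw [h0, zero_pow hs.ne_zero] at hω; exact zero_ne_one hω))]
  rfl

/-- In a finite field, modulo powers of prime exponent one non-power generates. -/
theorem power_class {K : Type u} [Field K] [Finite K] {s : ℕ} (hs : s.Prime) {α : K} (hα : α ≠ 0)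
    (hnp : ∀ r : K, r ^ s ≠ α) {β : K} (hβ : β ≠ 0) : ∃ (i : ℕ) (r : K), β = α ^ i * r ^ s := by
  classical
  let P : Subgroup Kˣ := (powMonoidHom s : Kˣ →* Kˣ).range
  have hker : Nat.card (powMonoidHom s : Kˣ →* Kˣ).ker ≤ s := by
    haveI : Fintype Kˣ := Fintype.ofFinite _
    haveI : Fintype (powMonoidHom s : Kˣ →* Kˣ).ker := Fintype.ofFinite _
    rw [Nat.card_eq_fintype_card, ← Finset.card_univ]
    refine (Finset.card_le_card_of_injOn Subtype.val (fun x _ => ?_) Subtype.val_injective.injOn).trans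
      (IsCyclic.card_pow_eq_one_le (α := Kˣ) hs.pos)
    exact Finset.mem_filter.mpr ⟨Finset.mem_univ _, MonoidHom.mem_ker.mp x.2⟩
  have hidx : P.index ≤ s := by
    refine le_trans (le_of_eq ?_) hker
    have h1 := (powMonoidHom s : Kˣ →* Kˣ).ker.card_eq_card_quotient_mul_card_subgroup
    rw [Nat.card_congr (QuotientGroup.quotientKerEquivRange _).toEquiv] at h1
    have h2 := P.card_eq_card_quotient_mul_card_subgroup
    rw [← Subgroup.index_eq_card, Nat.mul_comm] at h2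
    exact Nat.eq_of_mul_eq_mul_left Nat.card_pos (h2.symm.trans h1)
  let a : Kˣ := Units.mk0 α hα
  let b : Kˣ := Units.mk0 β hβ
  have haP : (QuotientGroup.mk a : Kˣ ⧸ P) ≠ 1 := fun h => by
    obtain ⟨r, hr⟩ := (QuotientGroup.eq_one_iff a).mp h
    exact hnp (r : K) ((Units.val_pow_eq_pow_val r s).symm.trans (congrArg Units.val hr))
  haveI := Fact.mk hs
  have haord : orderOf (QuotientGroup.mk a : Kˣ ⧸ P) = s := orderOf_eq_prime (by
    rw [← QuotientGroup.mk_pow, QuotientGroup.eq_one_iff]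
    exact ⟨a, rfl⟩) haP
  have htop : zpowers (QuotientGroup.mk a : Kˣ ⧸ P) = ⊤ := Subgroup.eq_top_of_card_eq _ (le_antisymm
    (Subgroup.card_le_card_group _) (by rw [Nat.card_zpowers, haord, ← Subgroup.index_eq_card]; exact hidx))
  obtain ⟨i, hi⟩ := ((isOfFinOrder_of_finite _).mem_powers_iff_mem_zpowers).mpr
    (htop.ge (Subgroup.mem_top (QuotientGroup.mk b : Kˣ ⧸ P)))
  have hi' : (QuotientGroup.mk (a ^ i) : Kˣ ⧸ P) = QuotientGroup.mk b := hi
  obtain ⟨r, hr⟩ := QuotientGroup.eq.mp hi'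
  refine ⟨i, (r : K), ?_⟩
  have := congrArg Units.val hr
  simp only [powMonoidHom_apply, Units.val_pow_eq_pow_val, Units.val_mul, Units.val_inv_eq_inv_val] at this
  rw [this, Units.val_mk0, Units.val_mk0, mul_inv_cancel_left₀ (pow_ne_zero i hα)]

end CfsgLib.BaseThree
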